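import Cfsg.Agent.Lib.BrauerChar.Main
import Cfsg.Agent.Lib.Blocks.Orthogonality
import Cfsg.Agent.Lib.BrauerPairs.RankOne
import Cfsg.Agent.Lib.Characters.Complete

/-!
# The lattice spanned by the columns of a block

`InCols M B v`: the family `v` is on `B` a locally integral combination of the columns
`(χ g)_χ`.  The columns of decomposition numbers are among them, two combinations pair to a
multiple of a centraliser order, and the decomposition columns together with a complementary
family of columns orthogonal to them determine the integral vectors orthogonal to that family.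
-/

set_option autoImplicit false
set_option linter.unusedSectionVars false
set_option linter.style.haveILetI false

namespace Cfsg.Agent.Lib.PerfectIso

open Cfsg.Agent.Lib.Blocks Cfsg.Agent.Lib.Blocks.Contrib Cfsg.Agent.Lib.BrauerChar
open Cfsg.Agent.Lib.Characters.Basic
open scoped ComplexConjugate

universe u

attribute [local instance] Ideal.Quotient.field

variable {G : Type u} [Group G] [Finite G] {M : Ideal Cfsg.AlgInt} [M.IsMaximal]

/-- A locally integral combination of the columns of the set `B` of characters. -/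
def InCols (M : Ideal Cfsg.AlgInt) [M.IsMaximal] (B : Set (Cfsg.IrrCharacter G))
    (v : Cfsg.IrrCharacter G → ℂ) : Prop :=
  ∃ a : G → ℂ, (∀ g, a g ∈ localRing M) ∧ ∀ χ ∈ B, v χ = ∑ᶠ g, a g * (χ : G → ℂ) g

theorem InCols.congr {B : Set (Cfsg.IrrCharacter G)} {v w : Cfsg.IrrCharacter G → ℂ}
    (h : InCols M B v) (e : ∀ χ ∈ B, w χ = v χ) : InCols M B w := by
  obtain ⟨a, ha, hv⟩ := h
  exact ⟨a, ha, fun χ hχ => (e χ hχ).trans (hv χ hχ)⟩

theorem inCols_sum {B : Set (Cfsg.IrrCharacter G)} {ι : Type*} (s : Finset ι) {c : ι → ℂ}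
    {v : ι → Cfsg.IrrCharacter G → ℂ} (hc : ∀ i ∈ s, c i ∈ localRing M)
    (hv : ∀ i ∈ s, InCols M B (v i)) : InCols M B fun χ => ∑ i ∈ s, c i * v i χ := by
  classical
  haveI := Fintype.ofFinite G
  choose! a ha hv using hv
  refine ⟨fun g => ∑ i ∈ s, c i * a i g,
    fun g => sum_mem fun i hi => mul_mem (hc i hi) (ha i hi g), fun χ hχ => ?_⟩
  rw [finsum_eq_sum_of_fintype]
  simp only [Finset.sum_mul]
  rw [Finset.sum_comm]
  refine Finset.sum_congr rfl fun i hi => ?_
  rw [hv i hi χ hχ, finsum_eq_sum_of_fintype, Finset.mul_sum]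
  exact Finset.sum_congr rfl fun g _ => (mul_assoc _ _ _).symm

/-- The sum over a conjugation orbit. -/
theorem sum_conj_fibre [Fintype G] [DecidableEq G] (f : G → ℂ) (h : G) :
    ∑ v : G, f (v * h * v⁻¹) = (Nat.card (Subgroup.centralizer ({h} : Set G)) : ℂ) *
      ∑ y ∈ Finset.univ.image (fun v : G => v * h * v⁻¹), f y := by
  classical
  rw [Finset.mul_sum, ← Finset.sum_fiberwise_of_maps_to (g := fun v : G => v * h * v⁻¹)
    (fun v hv => Finset.mem_image_of_mem _ hv)]
  refine Finset.sum_congr rfl fun y hy => ?_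
  obtain ⟨w, -, rfl⟩ := Finset.mem_image.mp hy
  rw [Finset.sum_congr rfl (g := fun _ => f (w * h * w⁻¹))
    fun v hv => by rw [(Finset.mem_filter.mp hv).2], Finset.sum_const, nsmul_eq_mul]
  congr 2
  rw [Nat.card_eq_fintype_card, ← Fintype.card_coe]
  refine Fintype.card_congr
    { toFun := fun v => ⟨w⁻¹ * v.1, ?_⟩
      invFun := fun z => ⟨w * z.1, ?_⟩
      left_inv := fun v => Subtype.ext (mul_inv_cancel_left w v.1)
      right_inv := fun z => Subtype.ext (inv_mul_cancel_left w z.1) }
  · rw [Subgroup.mem_centralizer_singleton_iff]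
    have e := (Finset.mem_filter.mp v.2).2
    calc w⁻¹ * v.1 * h = w⁻¹ * (v.1 * h * v.1⁻¹) * v.1 := by group
      _ = h * (w⁻¹ * v.1) := by rw [e]; group
  · have e := Subgroup.mem_centralizer_singleton_iff.mp z.2
    refine Finset.mem_filter.mpr ⟨Finset.mem_univ _, ?_⟩
    calc w * z.1 * h * (w * z.1)⁻¹ = w * (z.1 * h) * (z.1)⁻¹ * w⁻¹ := by group
      _ = w * h * w⁻¹ := by rw [e]; group

/-- Two columns of a block pair to a multiple of the centraliser order of either element. -/
theorem sum_mul_div_mem [Fintype G] {B : Set (Cfsg.IrrCharacter G)} (hB : Cfsg.IsPBlock M B)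
    (g h : G) :
    (∑ χ ∈ bset B, (χ : G → ℂ) g * (χ : G → ℂ) h) /
      (Nat.card (Subgroup.centralizer ({h} : Set G)) : ℂ) ∈ localRing M := by
  classical
  have e := sum_blockCoeff_conj B g h⁻¹
  rw [sum_conj_fibre (fun y => Cfsg.blockCoeff B (g⁻¹ * y)) h⁻¹, finsum_mem_bset,
    inv_inv] at e
  have hcent : Subgroup.centralizer ({h⁻¹} : Set G) = Subgroup.centralizer ({h} : Set G) := by
    ext z
    rw [Subgroup.mem_centralizer_singleton_iff, Subgroup.mem_centralizer_singleton_iff]
    exact ⟨fun hz => by simpa using (Commute.inv_right (show Commute z h⁻¹ from hz)).eq,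
      fun hz => (Commute.inv_right (show Commute z h from hz)).eq⟩
  rw [← e, hcent, mul_div_cancel_left₀ _ (Nat.cast_ne_zero.mpr Nat.card_pos.ne')]
  refine sum_mem fun y _ => ?_
  rw [← coe_coeff_blockIdemR hB]
  exact SetLike.coe_mem _

/-- The pairing of a combination of columns with a column. -/
theorem InCols.sum_mul_div_mem [Fintype G] {B : Set (Cfsg.IrrCharacter G)}
    (hB : Cfsg.IsPBlock M B) {v : Cfsg.IrrCharacter G → ℂ} (hv : InCols M B v) (h : G) :
    (∑ χ ∈ bset B, v χ * (χ : G → ℂ) h) /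
      (Nat.card (Subgroup.centralizer ({h} : Set G)) : ℂ) ∈ localRing M := by
  classical
  obtain ⟨a, ha, hv⟩ := hv
  rw [Finset.sum_congr rfl fun χ hχ => by rw [hv χ (mem_bset.mp hχ), finsum_eq_sum_of_fintype,
    Finset.sum_mul], Finset.sum_comm, Finset.sum_div]
  refine sum_mem fun g _ => ?_
  rw [Finset.sum_congr rfl fun χ _ => mul_assoc (a g) _ _, ← Finset.mul_sum, mul_div_assoc]
  exact mul_mem (ha g) (PerfectIso.sum_mul_div_mem hB g h)

variable {p : ℕ} [Fact p.Prime]

/-- Dual functions to the irreducible Brauer characters with values in the local ring. -/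
theorem exists_dual (hM : Cfsg.IsPModular p M) [Fintype G] :
    ∃ z : IBr M p G → G → ℂ, (∀ f g, z f g ∈ localRing M) ∧
      ∀ e f : IBr M p G, ∑ g, e.1 g * z f g = @ite ℂ (e = f) (Classical.dec _) 1 0 := by
  classical
  haveI := finite_ibr (G := G) hM
  haveI := Fintype.ofFinite (IBr M p G)
  let v : IBr M p G → G → Rk M := fun f g => Ideal.Quotient.mk M (bcharA p f.rep g)
  let Φ : (IBr M p G → Rk M) →ₗ[Rk M] (G → Rk M) := Fintype.linearCombination (Rk M) v
  have hinj : LinearMap.ker Φ = ⊥ := by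
    rw [LinearMap.ker_eq_bot']
    intro c hc
    exact funext (Fintype.linearIndependent_iff.mp (linearIndependent_mk hM) c
      (by simpa [Φ, v, Fintype.linearCombination_apply] using hc))
  obtain ⟨L, hL⟩ := Φ.exists_leftInverse_of_injective hinj
  choose R hR using fun (g : G) (i : IBr M p G) =>
    residue_surjective (M := M) (L (Pi.single g 1) i)
  let D : Matrix (IBr M p G) (IBr M p G) (localRing M) := Matrix.of fun j i =>
    ∑ g, ofAlgInt M (bcharA p j.rep g) * R g i
  have hD : (residue M).mapMatrix D = 1 := by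
    ext j i
    have h1 : L (v j) = Pi.single j 1 := by
      have := congrArg (fun T : (IBr M p G → Rk M) →ₗ[Rk M] (IBr M p G → Rk M) =>
        T (Pi.single j 1)) hL
      simpa [Φ, Fintype.linearCombination_apply_single] using this
    have h2 := congrFun h1 i
    rw [← Finset.univ_sum_single (v j), map_sum, Finset.sum_apply] at h2
    have h3 : ∀ g, L (Pi.single g (v j g)) i = v j g * L (Pi.single g 1) i := fun g => by
      have e1 : (Pi.single g (v j g) : G → Rk M) = v j g • (Pi.single g 1 : G → Rk M) :=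
        funext fun x => by rcases eq_or_ne x g with rfl | hx <;> simp [*]
      rw [e1, map_smul]
      rfl
    simp only [h3] at h2
    simp only [RingHom.mapMatrix_apply, Matrix.map_apply, D, Matrix.of_apply, map_sum, map_mul,
      hR, residue_ofAlgInt]
    rw [Matrix.one_apply]
    refine h2.trans ?_
    rw [Pi.single_apply]
    simp only [eq_comm]
  have hu : IsUnit D.det := by
    rw [isUnit_localRing_iff, RingHom.map_det, hD, Matrix.det_one]
    exact one_ne_zero
  refine ⟨fun f g => ((∑ i, R g i * D⁻¹ i f : localRing M) : ℂ),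
    fun f g => SetLike.coe_mem _, fun e f => ?_⟩
  have h := congrArg (fun T : Matrix (IBr M p G) (IBr M p G) (localRing M) =>
    ((T e f : localRing M) : ℂ)) (Matrix.mul_nonsing_inv D hu)
  simp only [Matrix.mul_apply, D, Matrix.of_apply, Finset.sum_mul] at h
  rw [Finset.sum_comm] at h
  push_cast at h
  rw [Matrix.one_apply, apply_ite (fun x : localRing M => (x : ℂ))] at h
  push_cast at h
  rw [← h]
  refine Finset.sum_congr rfl fun g _ => ?_
  push_cast
  rw [Finset.mul_sum]
  refine Finset.sum_congr rfl fun i _ => ?_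
  rw [← e.bchar_rep, coe_ofAlgInt, mul_assoc]
  rfl

/-- The columns of decomposition numbers are combinations of columns. -/
theorem inCols_dnum (hM : Cfsg.IsPModular p M) (B : Set (Cfsg.IrrCharacter G)) (f : IBr M p G) :
    InCols M B fun χ => (dnum hM χ f : ℂ) := by
  classical
  haveI := finite_ibr (G := G) hM
  haveI := Fintype.ofFinite (IBr M p G)
  haveI := Fintype.ofFinite G
  obtain ⟨z, hz, hzd⟩ := exists_dual (G := G) hM
  refine ⟨fun g => if p ∣ orderOf g then 0 else z f g, fun g => ?_, fun χ _ => ?_⟩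
  · beta_reduce
    split_ifs
    · exact zero_mem _
    · exact hz f g
  rw [finsum_eq_sum_of_fintype]
  have e : ∀ g : G, (if p ∣ orderOf g then 0 else z f g) * (χ : G → ℂ) g =
      z f g * ∑ e : IBr M p G, (dnum hM χ e : ℂ) * e.1 g := fun g => by
    have h := congrFun (pRegularPart_eq hM χ) g
    simp only [Finset.sum_apply, Pi.smul_apply, smul_eq_mul, pRegularPart_apply] at h
    rw [← h]
    split_ifs <;> simp
  simp only [e, Finset.mul_sum]
  rw [Finset.sum_comm]
  have e2 : ∀ i : IBr M p G, ∑ g, z f g * ((dnum hM χ i : ℂ) * i.1 g) =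
      if i = f then (dnum hM χ i : ℂ) else 0 := fun i => by
    rw [show (if i = f then (dnum hM χ i : ℂ) else 0) =
      (dnum hM χ i : ℂ) * (if i = f then 1 else 0) by split_ifs <;> simp, ← hzd, Finset.mul_sum]
    exact Finset.sum_congr rfl fun g _ => by ring
  simp only [e2, Finset.sum_ite_eq', Finset.mem_univ, if_true]

/-- The value of a character of the block at a regular element. -/
theorem apply_regular (hM : Cfsg.IsPModular p M) {B : Set (Cfsg.IrrCharacter G)}
    (hB : Cfsg.IsPBlock M B) [Fintype {f : IBr M p G // InBlock B f}]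
    {χ : Cfsg.IrrCharacter G} (hχ : χ ∈ B) {g : G} (hg : ¬ p ∣ orderOf g) :
    (χ : G → ℂ) g = ∑ f : {f : IBr M p G // InBlock B f}, (dnum hM χ f.1 : ℂ) * f.1.1 g := by
  classical
  haveI := finite_ibr (G := G) hM
  haveI := Fintype.ofFinite (IBr M p G)
  have h := congrFun (pRegularPart_eq hM χ) g
  simp only [Finset.sum_apply, Pi.smul_apply, smul_eq_mul, pRegularPart_apply, if_neg hg] at h
  rw [h, ← Finset.sum_filter_add_sum_filter_not Finset.univ (fun f => InBlock B f),
    Finset.sum_eq_zero (s := Finset.univ.filter fun f => ¬ InBlock B f) fun f hf => by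
      rw [dnum_eq_zero hM hB fun e => (Finset.mem_filter.mp hf).2 (e.mp hχ), Nat.cast_zero,
        zero_mul], add_zero]
  exact Finset.sum_subtype (F := inferInstance) _ (fun f => by simp) fun f => _

/-- The decomposition columns have integral dual vectors. -/
theorem exists_dual_dnum (hM : Cfsg.IsPModular p M) {B : Set (Cfsg.IrrCharacter G)}
    (hB : Cfsg.IsPBlock M B) (f : {f : IBr M p G // InBlock B f}) :
    ∃ a : Cfsg.IrrCharacter G → ℤ, ∀ e : {f : IBr M p G // InBlock B f},
      ∑ χ ∈ bset B, (a χ : ℂ) * (dnum hM χ e.1 : ℂ) = @ite ℂ (e = f) (Classical.dec _) 1 0 := by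
  classical
  haveI := finite_ibr (G := G) hM
  haveI := Fintype.ofFinite (IBr M p G)
  haveI := Fintype.ofFinite (Cfsg.IrrCharacter G)
  have eB : ((fun χ : Cfsg.IrrCharacter G => Cfsg.pRegularPart p (χ : G → ℂ)) '' B) =
      (fun χ : Cfsg.IrrCharacter G => Cfsg.pRegularPart p (χ : G → ℂ)) ''
        ((bset B : Finset (Cfsg.IrrCharacter G)) : Set (Cfsg.IrrCharacter G)) :=
    congrArg _ (Set.ext fun χ => (mem_bset).symm)
  have h := mem_span_int hM hB f.2
  rw [eB] at h
  obtain ⟨a, ha⟩ := (Submodule.mem_span_image_finset_iff_exists_fun' ℤ).mp h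
  refine ⟨a, fun e => ?_⟩
  have hz : ∑ i : IBr M p G,
      ((∑ χ ∈ bset B, (a χ : ℂ) * (dnum hM χ i : ℂ)) - if i = f.1 then 1 else 0) • i.1 = 0 := by
    simp only [sub_smul, Finset.sum_sub_distrib, ite_smul, one_smul, zero_smul,
      Finset.sum_ite_eq', Finset.mem_univ, if_true, sub_eq_zero, Finset.sum_smul, ← smul_smul]
    rw [Finset.sum_comm]
    refine (Finset.sum_congr rfl fun χ _ => ?_).trans ha
    rw [← Finset.smul_sum, ← pRegularPart_eq hM χ, Int.cast_smul_eq_zsmul]
  have h4 := Fintype.linearIndependent_iff.mp (linearIndependent_val hM) _ hz e.1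
  rw [sub_eq_zero] at h4
  rw [h4]
  by_cases he : e = f <;> simp [he, Subtype.ext_iff.not.mp]

/-- The decomposition columns and a family spanning the singular columns span everything. -/
theorem top_le_span (hM : Cfsg.IsPModular p M) {B : Set (Cfsg.IrrCharacter G)}
    (hB : Cfsg.IsPBlock M B) {ι : Type*} [Fintype ι] (d : ι → Cfsg.IrrCharacter G → ℤ)
    (hcol : ∀ g : G, p ∣ orderOf g → ∃ c : ι → ℂ, ∀ χ ∈ B, (χ : G → ℂ) g = ∑ r, c r * (d r χ : ℂ))
    [Fintype {f : IBr M p G // InBlock B f}] :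
    ⊤ ≤ Submodule.span ℂ (Set.range (Sum.elim
      (fun (f : {f : IBr M p G // InBlock B f}) (χ : {χ : Cfsg.IrrCharacter G // χ ∈ bset B}) =>
        (dnum hM χ.1 f.1 : ℂ)) fun r χ => (d r χ.1 : ℂ))) := by
  classical
  haveI := finite_ibr (G := G) hM
  haveI := Fintype.ofFinite G
  haveI := Fintype.ofFinite (Cfsg.IrrCharacter G)
  let β := {χ : Cfsg.IrrCharacter G // χ ∈ bset B}
  let w : {f : IBr M p G // InBlock B f} ⊕ ι → β → ℂ :=
    Sum.elim (fun f χ => (dnum hM χ.1 f.1 : ℂ)) fun r χ => (d r χ.1 : ℂ)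
  have hcolw : ∀ g : G, (fun χ : β => (χ.1 : G → ℂ) g) ∈ Submodule.span ℂ (Set.range w) := by
    intro g
    rw [Submodule.mem_span_range_iff_exists_fun]
    by_cases hg : p ∣ orderOf g
    · obtain ⟨c, hc⟩ := hcol g hg
      refine ⟨Sum.elim 0 c, funext fun χ => ?_⟩
      simp [w, Fintype.sum_sum_type, hc χ.1 (mem_bset.mp χ.2)]
    · refine ⟨Sum.elim (fun f => f.1.1 g) 0, funext fun χ => ?_⟩
      simp only [Fintype.sum_sum_type, Sum.elim_inl, Sum.elim_inr, Pi.zero_apply, zero_mul,
        Finset.sum_const_zero, add_zero, Finset.sum_apply, Pi.smul_apply, smul_eq_mul, w]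
      rw [apply_regular hM hB (mem_bset.mp χ.2) hg]
      exact Finset.sum_congr rfl fun f _ => mul_comm (f.1.1 g) _
  have htop : ⊤ ≤ Submodule.span ℂ (Set.range w) := by
    rintro y -
    have hy : y = ∑ g : G, ((Nat.card G : ℂ)⁻¹ *
        ∑ ψ : β, y ψ * conj ((ψ.1 : G → ℂ) g)) • fun χ : β => (χ.1 : G → ℂ) g := by
      funext χ
      simp only [Finset.sum_apply, Pi.smul_apply, smul_eq_mul, Finset.mul_sum, Finset.sum_mul]
      rw [Finset.sum_comm, Finset.sum_eq_single χ]
      · have h1 := classInner_self_irr χ.1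
        rw [Cfsg.classInner, Finset.mul_sum] at h1
        calc y χ = y χ * 1 := (mul_one _).symm
          _ = _ := by
            rw [← h1, Finset.mul_sum]
            exact Finset.sum_congr rfl fun g _ => by ring
      · intro ψ _ hψ
        have h1 : Cfsg.classInner (χ.1 : G → ℂ) (ψ.1 : G → ℂ) = 0 :=
          classInner_irr_of_ne fun e => hψ (Subtype.ext e).symm
        rw [Cfsg.classInner, Finset.mul_sum] at h1
        calc _ = y ψ * ∑ g : G, (Nat.card G : ℂ)⁻¹ * ((χ.1 : G → ℂ) g * conj ((ψ.1 : G → ℂ) g)) := by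
              rw [Finset.mul_sum]
              exact Finset.sum_congr rfl fun g _ => by ring
          _ = 0 := by rw [h1, mul_zero]
      · exact fun h => absurd (Finset.mem_univ _) h
    rw [hy]
    exact Submodule.sum_mem _ fun g _ => Submodule.smul_mem _ _ (hcolw g)
  exact htop

/-- The decomposition columns and a family orthogonal to them spanning all columns determine
the integral vectors orthogonal to the family. -/
theorem inCols_of_orth (hM : Cfsg.IsPModular p M) {B : Set (Cfsg.IrrCharacter G)}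
    (hB : Cfsg.IsPBlock M B) {ι : Type*} [Fintype ι] (d : ι → Cfsg.IrrCharacter G → ℤ)
    (hcol : ∀ g : G, p ∣ orderOf g → ∃ c : ι → ℂ, ∀ χ ∈ B, (χ : G → ℂ) g = ∑ r, c r * (d r χ : ℂ))
    {v : Cfsg.IrrCharacter G → ℂ} (hv : ∀ χ ∈ B, v χ ∈ localRing M)
    (hperp : ∀ r, ∑ χ ∈ bset B, v χ * (d r χ : ℂ) = 0)
    (horth : ∀ f : {f : IBr M p G // InBlock B f}, ∀ r,
      ∑ χ ∈ bset B, (dnum hM χ f.1 : ℂ) * (d r χ : ℂ) = 0) : InCols M B v := by
  classical
  haveI := finite_ibr (G := G) hM
  haveI := Fintype.ofFinite {f : IBr M p G // InBlock B f}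
  haveI := Fintype.ofFinite G
  haveI := Fintype.ofFinite (Cfsg.IrrCharacter G)
  let β := {χ : Cfsg.IrrCharacter G // χ ∈ bset B}
  let w : {f : IBr M p G // InBlock B f} ⊕ ι → β → ℂ :=
    Sum.elim (fun f χ => (dnum hM χ.1 f.1 : ℂ)) fun r χ => (d r χ.1 : ℂ)
  have htop : ⊤ ≤ Submodule.span ℂ (Set.range w) := top_le_span hM hB d hcol
  obtain ⟨c, hc⟩ := Submodule.mem_span_range_iff_exists_fun ℂ |>.mp
    (htop (Submodule.mem_top : (fun χ : β => v χ.1) ∈ ⊤))
  let y : β → ℂ := fun χ => ∑ r, c (Sum.inr r) * (d r χ.1 : ℂ)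
  have hval : ∀ χ : β, v χ.1 =
      (∑ f, c (Sum.inl f) * (dnum hM χ.1 f.1 : ℂ)) + y χ := fun χ => by
    rw [← congrFun hc χ, Finset.sum_apply, Fintype.sum_sum_type]
    rfl
  have hyd : ∀ r, ∑ χ : β, y χ * (d r χ.1 : ℂ) = 0 := by
    intro r
    have h1 := hperp r
    rw [← Finset.sum_coe_sort] at h1
    have h2 : ∑ χ : β, (∑ f, c (Sum.inl f) * (dnum hM χ.1 f.1 : ℂ)) * (d r χ.1 : ℂ) = 0 := by
      simp only [Finset.sum_mul]
      rw [Finset.sum_comm]
      refine Finset.sum_eq_zero fun f _ => ?_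
      have h3 := horth f r
      rw [← Finset.sum_coe_sort] at h3
      rw [Finset.sum_congr rfl fun χ _ => mul_assoc (c (Sum.inl f)) _ _, ← Finset.mul_sum, h3,
        mul_zero]
    simp only [hval, add_mul, Finset.sum_add_distrib] at h1
    linear_combination h1 - h2
  have hy0 : y = 0 := by
    have h0 : ∑ χ : β, y χ * conj (y χ) = 0 := by
      have e : ∀ χ : β, conj (y χ) = ∑ r, conj (c (Sum.inr r)) * (d r χ.1 : ℂ) := fun χ => by
        simp [y, map_sum]
      simp only [e, Finset.mul_sum]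
      rw [Finset.sum_comm]
      refine Finset.sum_eq_zero fun r _ => ?_
      rw [Finset.sum_congr rfl fun χ _ => mul_left_comm (y χ) _ _, ← Finset.mul_sum, hyd r,
        mul_zero]
    funext χ
    simp only [Complex.mul_conj, ← Complex.ofReal_sum, Complex.ofReal_eq_zero] at h0
    exact Complex.normSq_eq_zero.mp ((Finset.sum_eq_zero_iff_of_nonneg fun χ _ =>
      Complex.normSq_nonneg _).mp h0 χ (Finset.mem_univ _))
  -- the coefficients of the decomposition columns are integral
  have hcf : ∀ f, c (Sum.inl f) ∈ localRing M := by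
    intro f
    obtain ⟨a, ha⟩ := exists_dual_dnum hM hB f
    have h1 : ∑ χ : β, (a χ.1 : ℂ) * v χ.1 = c (Sum.inl f) := by
      simp only [hval, hy0, Pi.zero_apply, add_zero, Finset.mul_sum]
      rw [Finset.sum_comm]
      have h2 : ∀ e, ∑ χ : β, (a χ.1 : ℂ) * (c (Sum.inl e) * (dnum hM χ.1 e.1 : ℂ)) =
          if e = f then c (Sum.inl e) else 0 := fun e => by
        have h3 := ha e
        rw [← Finset.sum_coe_sort] at h3
        rw [Finset.sum_congr rfl fun χ _ => mul_left_comm _ _ _, ← Finset.mul_sum, h3]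
        split_ifs <;> simp_all
      simp only [h2, Finset.sum_ite_eq', Finset.mem_univ, if_true]
    rw [← h1]
    exact sum_mem fun χ _ => mul_mem (intCast_mem _ _) (hv χ.1 (mem_bset.mp χ.2))
  refine (inCols_sum Finset.univ (fun f _ => hcf f)
    (fun f _ => inCols_dnum hM B f.1)).congr fun χ hχ => ?_
  rw [hval ⟨χ, mem_bset.mpr hχ⟩, hy0, Pi.zero_apply, add_zero]

/-- A block of rank one with `p ^ d` characters has all decomposition numbers one. -/
theorem dnum_eq_one (hM : Cfsg.IsPModular p M) {B : Set (Cfsg.IrrCharacter G)}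
    (hB : Cfsg.IsPBlock M B) (hl : Cfsg.blockRank p B = 1)
    (hk : Nat.card B = p ^ Cfsg.blockDefect p B) (f : {f : IBr M p G // InBlock B f})
    {χ : Cfsg.IrrCharacter G} (hχ : χ ∈ B) : dnum hM χ f.1 = 1 := by
  classical
  haveI := finite_ibr (G := G) hM
  haveI := Fintype.ofFinite {f : IBr M p G // InBlock B f}
  have hsub : ∀ e : {f : IBr M p G // InBlock B f}, e = f := fun e => by
    have h := (card_inBlock hM hB).trans hl
    exact (Nat.card_eq_one_iff_unique.mp h).1.elim e f
  obtain ⟨g, -, d, hg, hdeg, -, hsum⟩ := Cfsg.Agent.Lib.BrauerPairs.RankOne.exists_phi hM hB hl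
  have h1 : ¬ p ∣ orderOf (1 : G) := by rw [orderOf_one]; exact (Fact.out : p.Prime).not_dvd_one
  have hdpos : ∀ ψ ∈ bset B, 1 ≤ d ψ := fun ψ hψ => by
    have h := Blocks.charDegree_pos ψ
    rw [hdeg ψ (mem_bset.mp hψ)] at h
    exact Nat.pos_of_mul_pos_left h
  have hd1 : ∀ ψ ∈ bset B, d ψ = 1 := by
    by_contra hne
    push Not at hne
    obtain ⟨ψ, hψ, hψ1⟩ := hne
    have h2 : ∑ φ ∈ bset B, 1 < ∑ φ ∈ bset B, d φ ^ 2 :=
      Finset.sum_lt_sum (fun φ hφ => Nat.one_le_pow _ _ (hdpos φ hφ))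
        ⟨ψ, hψ, Nat.one_lt_pow two_ne_zero
          (lt_of_le_of_ne (hdpos ψ hψ) (Ne.symm hψ1))⟩
    rw [Finset.sum_const, smul_eq_mul, mul_one, card_bset, hk, hsum] at h2
    exact lt_irrefl _ h2
  have hval : ∀ ψ ∈ bset B, (dnum hM ψ f.1 : ℂ) * f.1.1 1 = (g : ℂ) := fun ψ hψ => by
    have h := apply_regular hM hB (mem_bset.mp hψ) h1
    rw [Fintype.sum_eq_single f fun e he => absurd (hsub e) he, Blocks.char_one_eq_degree,
      hdeg ψ (mem_bset.mp hψ), hd1 ψ hψ, mul_one] at h
    exact h.symm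
  have hf1 : f.1.1 1 ≠ 0 := fun h0 => by
    have := hval χ (mem_bset.mpr hχ)
    rw [h0, mul_zero] at this
    exact hg.ne' (by exact_mod_cast this.symm)
  obtain ⟨a, ha⟩ := exists_dual_dnum hM hB f
  have h3 := ha f
  rw [if_pos rfl, Finset.sum_congr rfl fun ψ hψ => by
    rw [show (dnum hM ψ f.1 : ℂ) = (dnum hM χ f.1 : ℂ) from mul_right_cancel₀ hf1
      ((hval ψ hψ).trans (hval χ (mem_bset.mpr hχ)).symm)], ← Finset.sum_mul] at h3
  have h4 : (∑ ψ ∈ bset B, a ψ) * (dnum hM χ f.1 : ℤ) = 1 := by exact_mod_cast h3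
  have h5 := Int.eq_one_or_neg_one_of_mul_eq_one (mul_comm _ _ |>.trans h4)
  omega

end Cfsg.Agent.Lib.PerfectIso
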