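import Cfsg.Agent.Lib.PerfectIso.Columns
import Cfsg.Prelude.Def_BlockLocal

/-!
# Perfect isometries from matching column data

`IsColData`: sign vectors spanning the singular columns of a block inside the column lattice,
orthogonal to the decomposition columns.  A signed bijection matching the sign vectors of two
blocks is a perfect isometry (`isPerfectIsometry_of_match`).
-/

set_option autoImplicit false
set_option linter.unusedSectionVars false
set_option linter.style.haveILetI false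

namespace Cfsg.Agent.Lib.PerfectIso

open Cfsg.Agent.Lib.Blocks Cfsg.Agent.Lib.Blocks.Contrib Cfsg.Agent.Lib.BrauerChar
open Cfsg.Agent.Lib.Characters.Basic

universe u v w

attribute [local instance] Ideal.Quotient.field

/-- The column data of a block. -/
structure IsColData {G : Type u} [Group G] [Finite G] {M : Ideal Cfsg.AlgInt} [M.IsMaximal]
    {p : ℕ} [Fact p.Prime] (hM : Cfsg.IsPModular p M) (B : Set (Cfsg.IrrCharacter G))
    {R : Type w} [Fintype R] (d : R → Cfsg.IrrCharacter G → ℤ) : Prop where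
  inCols : ∀ r, InCols M B fun χ => (d r χ : ℂ)
  singular : ∀ g : G, p ∣ orderOf g → ∃ c : R → ℂ, (∀ r, c r ∈ localRing M) ∧
    ∀ χ ∈ B, (χ : G → ℂ) g = ∑ r, c r * (d r χ : ℂ)
  orth : ∀ f : IBr M p G, ∀ r, ∑ χ ∈ bset B, (dnum hM χ f : ℂ) * (d r χ : ℂ) = 0

variable {G : Type u} [Group G] [Finite G] {H : Type v} [Group H] [Finite H]
  {M : Ideal Cfsg.AlgInt} [M.IsMaximal] {p : ℕ} [Fact p.Prime] {hM : Cfsg.IsPModular p M}

theorem IsColData.sum_regular {B : Set (Cfsg.IrrCharacter G)} {R : Type w} [Fintype R]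
    {d : R → Cfsg.IrrCharacter G → ℤ} (hd : IsColData hM B d) (hB : Cfsg.IsPBlock M B)
    {g : G} (hg : ¬ p ∣ orderOf g) (r : R) :
    ∑ χ ∈ bset B, (χ : G → ℂ) g * (d r χ : ℂ) = 0 := by
  classical
  haveI := finite_ibr (G := G) hM
  haveI := Fintype.ofFinite {f : IBr M p G // InBlock B f}
  rw [Finset.sum_congr rfl fun χ hχ => by
    rw [apply_regular hM hB (mem_bset.mp hχ) hg, Finset.sum_mul], Finset.sum_comm]
  refine Finset.sum_eq_zero fun f _ => ?_
  rw [Finset.sum_congr rfl fun χ _ => mul_right_comm _ (f.1.1 g) _, ← Finset.sum_mul,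
    hd.orth f.1 r, zero_mul]

/-- The matching of two families of sign vectors under a signed bijection. -/
def Matches {R : Type w} {R' : Type w} (B : Set (Cfsg.IrrCharacter G))
    (c : Set (Cfsg.IrrCharacter H)) (d : R → Cfsg.IrrCharacter G → ℤ)
    (d' : R' → Cfsg.IrrCharacter H → ℤ) (I : Cfsg.IrrCharacter H → Cfsg.IrrCharacter G)
    (ε : Cfsg.IrrCharacter H → ℤ) : Prop :=
  Set.BijOn I c B ∧ (∀ η ∈ c, ε η = 1 ∨ ε η = -1) ∧
    (∀ r' : R', ∃ r : R, ∃ δ : ℤ, (δ = 1 ∨ δ = -1) ∧ ∀ η ∈ c, ε η * d r (I η) = δ * d' r' η) ∧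
    ∀ r : R, ∃ r' : R', ∃ δ : ℤ, (δ = 1 ∨ δ = -1) ∧ ∀ η ∈ c, ε η * d r (I η) = δ * d' r' η

variable {R R' : Type w} {B : Set (Cfsg.IrrCharacter G)}
  {c : Set (Cfsg.IrrCharacter H)} {d : R → Cfsg.IrrCharacter G → ℤ}
  {d' : R' → Cfsg.IrrCharacter H → ℤ} {I : Cfsg.IrrCharacter H → Cfsg.IrrCharacter G}
  {ε : Cfsg.IrrCharacter H → ℤ}

theorem sum_bijOn (h : Set.BijOn I c B) (F : Cfsg.IrrCharacter G → ℂ) :
    ∑ η ∈ bset c, F (I η) = ∑ χ ∈ bset B, F χ :=
  Finset.sum_bij (fun η _ => I η) (fun η hη => mem_bset.mpr (h.mapsTo (mem_bset.mp hη)))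
    (fun a ha b hb e => h.injOn (mem_bset.mp ha) (mem_bset.mp hb) e)
    (fun χ hχ => by
      obtain ⟨η, hη, rfl⟩ := h.surjOn (mem_bset.mp hχ)
      exact ⟨η, mem_bset.mpr hη, rfl⟩) fun η _ => rfl

/-- The reverse matching. -/
theorem Matches.symm (h : Matches B c d d' I ε) :
    ∃ (J : Cfsg.IrrCharacter G → Cfsg.IrrCharacter H) (ε' : Cfsg.IrrCharacter G → ℤ),
      Matches c B d' d J ε' ∧ ∀ η ∈ c, J (I η) = η ∧ ε' (I η) = ε η := by
  obtain ⟨hI, hε, h1, h2⟩ := h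
  obtain ⟨χ₀⟩ : Nonempty (Cfsg.IrrCharacter H) := ⟨⟨_, Characters.Basic.oneChar H |>.2⟩⟩
  haveI : Nonempty (Cfsg.IrrCharacter H) := ⟨χ₀⟩
  set J := Function.invFunOn I c with hJ
  have hJI : ∀ η ∈ c, J (I η) = η := fun η hη => hI.injOn.leftInvOn_invFunOn hη
  have hflip : ∀ (r : R) (r' : R') (δ : ℤ), (δ = 1 ∨ δ = -1) →
      (∀ η ∈ c, ε η * d r (I η) = δ * d' r' η) → ∀ χ ∈ B, ε (J χ) * d' r' (J χ) = δ * d r χ := by
    intro r r' δ hδ he χ hχ
    obtain ⟨η, hη, rfl⟩ := hI.surjOn hχ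
    rw [hJI η hη]
    have e := he η hη
    rcases hε η hη with h3 | h3 <;> rcases hδ with rfl | rfl <;> rw [h3] at e ⊢ <;>
      linarith
  refine ⟨J, fun χ => ε (J χ), ⟨⟨fun χ hχ => ?_, fun a ha b hb e => ?_, fun η hη => ?_⟩,
    fun χ hχ => ?_, fun r => ?_, fun r' => ?_⟩, fun η hη => ⟨hJI η hη, congrArg ε (hJI η hη)⟩⟩
  · obtain ⟨η, hη, rfl⟩ := hI.surjOn hχ
    rwa [hJI η hη]
  · obtain ⟨η, hη, rfl⟩ := hI.surjOn ha
    obtain ⟨η', hη', rfl⟩ := hI.surjOn hb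
    rw [hJI η hη, hJI η' hη'] at e
    rw [e]
  · exact ⟨I η, hI.mapsTo hη, hJI η hη⟩
  · obtain ⟨η, hη, rfl⟩ := hI.surjOn hχ
    show ε (J (I η)) = 1 ∨ ε (J (I η)) = -1
    rw [hJI η hη]
    exact hε η hη
  · obtain ⟨r', δ, hδ, he⟩ := h2 r
    exact ⟨r', δ, hδ, hflip r r' δ hδ he⟩
  · obtain ⟨r, δ, hδ, he⟩ := h1 r'
    exact ⟨r, δ, hδ, hflip r r' δ hδ he⟩

variable [Fintype R] [Fintype R']

/-- The transported column lies in the column lattice. -/
theorem Matches.inCols (h : Matches B c d d' I ε) (hB : Cfsg.IsPBlock M B)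
    (hc : Cfsg.IsPBlock M c) (hd : IsColData hM B d) (hd' : IsColData hM c d') (x : G) :
    InCols M c fun η => (ε η : ℂ) * (I η : G → ℂ) x := by
  classical
  obtain ⟨hI, hε, h1, h2⟩ := h
  by_cases hx : p ∣ orderOf x
  · obtain ⟨a, ha, hv⟩ := hd.singular x hx
    choose r' δ hδ he using h2
    refine (inCols_sum Finset.univ (c := fun r => a r * (δ r : ℂ))
      (v := fun r η => (d' (r' r) η : ℂ))
      (fun r _ => mul_mem (ha r) (intCast_mem _ _)) fun r _ => hd'.inCols (r' r)).congr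
        fun η hη => ?_
    rw [hv (I η) (hI.mapsTo hη), Finset.mul_sum]
    refine Finset.sum_congr rfl fun r _ => ?_
    have e : (ε η : ℂ) * (d r (I η) : ℂ) = (δ r : ℂ) * (d' (r' r) η : ℂ) := by
      exact_mod_cast he r η hη
    rw [mul_left_comm, e, mul_assoc]
  · refine inCols_of_orth hM hc d' (fun g hg => ?_) (fun η _ => ?_) (fun r' => ?_)
      fun f r' => hd'.orth f.1 r'
    · obtain ⟨a, -, hv⟩ := hd'.singular g hg
      exact ⟨a, hv⟩
    · exact mul_mem (intCast_mem _ _)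
        (mem_localRing_of_isIntegral (Characters.Basic.isIntegral_apply (isCharacter_irr (I η)) x))
    · obtain ⟨r, δ, hδ, he⟩ := h1 r'
      have e : ∀ η ∈ bset c, (ε η : ℂ) * (I η : G → ℂ) x * (d' r' η : ℂ) =
          (δ : ℂ) * ((I η : G → ℂ) x * (d r (I η) : ℂ)) := by
        intro η hη
        have h3 : (ε η : ℂ) * (d r (I η) : ℂ) = (δ : ℂ) * (d' r' η : ℂ) := by
          exact_mod_cast he η (mem_bset.mp hη)
        have h4 : (ε η : ℂ) * (ε η : ℂ) = 1 := by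
          rcases hε η (mem_bset.mp hη) with h4 | h4 <;> simp [h4]
        have h5 : (δ : ℂ) * (δ : ℂ) = 1 := by rcases hδ with rfl | rfl <;> simp
        linear_combination (-((I η : G → ℂ) x * (ε η : ℂ) * (δ : ℂ))) * h3 -
          (I η : G → ℂ) x * (ε η : ℂ) * (d' r' η : ℂ) * h5 +
          (I η : G → ℂ) x * (δ : ℂ) * (d r (I η) : ℂ) * h4
      rw [Finset.sum_congr rfl e, ← Finset.mul_sum,
        sum_bijOn hI fun χ => (χ : G → ℂ) x * (d r χ : ℂ), hd.sum_regular hB hx r, mul_zero]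

/-- Regular and singular columns are orthogonal under a matching. -/
theorem Matches.sum_eq_zero (h : Matches B c d d' I ε) (hB : Cfsg.IsPBlock M B)
    (hd : IsColData hM B d) (hd' : IsColData hM c d') {x : G} {y : H}
    (hx : ¬ p ∣ orderOf x) (hy : p ∣ orderOf y) :
    ∑ η ∈ bset c, (ε η : ℂ) * (I η : G → ℂ) x * (η : H → ℂ) y = 0 := by
  classical
  obtain ⟨hI, hε, h1, -⟩ := h
  obtain ⟨a, -, hv⟩ := hd'.singular y hy
  rw [Finset.sum_congr rfl fun η hη => by rw [hv η (mem_bset.mp hη), Finset.mul_sum],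
    Finset.sum_comm]
  refine Finset.sum_eq_zero fun r' _ => ?_
  obtain ⟨r, δ, hδ, he⟩ := h1 r'
  have e : ∀ η ∈ bset c, (ε η : ℂ) * (I η : G → ℂ) x * (a r' * (d' r' η : ℂ)) =
      (a r' * δ) * ((I η : G → ℂ) x * (d r (I η) : ℂ)) := by
    intro η hη
    have h3 : (ε η : ℂ) * (d r (I η) : ℂ) = (δ : ℂ) * (d' r' η : ℂ) := by
      exact_mod_cast he η (mem_bset.mp hη)
    have h4 : (ε η : ℂ) * (ε η : ℂ) = 1 := by
      rcases hε η (mem_bset.mp hη) with h4 | h4 <;> simp [h4]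
    have h5 : (δ : ℂ) * (δ : ℂ) = 1 := by rcases hδ with rfl | rfl <;> simp
    linear_combination (-(a r' * (I η : G → ℂ) x * (ε η : ℂ) * (δ : ℂ))) * h3 -
      a r' * (I η : G → ℂ) x * (ε η : ℂ) * (d' r' η : ℂ) * h5 +
      a r' * (I η : G → ℂ) x * (δ : ℂ) * (d r (I η) : ℂ) * h4
  rw [Finset.sum_congr rfl e, ← Finset.mul_sum,
    sum_bijOn hI fun χ => (χ : G → ℂ) x * (d r χ : ℂ), hd.sum_regular hB hx r, mul_zero]

/-- Matching column data give a perfect isometry. -/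
theorem isPerfectIsometry_of_match (h : Matches B c d d' I ε) (hB : Cfsg.IsPBlock M B)
    (hc : Cfsg.IsPBlock M c) (hd : IsColData hM B d) (hd' : IsColData hM c d') :
    Cfsg.IsPerfectIsometry p M c B I ε := by
  classical
  haveI := Fintype.ofFinite G
  haveI := Fintype.ofFinite H
  refine ⟨h.1, h.2.1, fun x y => ?_⟩
  obtain ⟨J, ε', hs, hJ⟩ := h.symm
  have hμ : Cfsg.signedBijectionKernel c I ε x y =
      ∑ η ∈ bset c, (ε η : ℂ) * (I η : G → ℂ) x * (η : H → ℂ) y := by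
    rw [Cfsg.signedBijectionKernel, finsum_mem_bset]
  have hμ' : Cfsg.signedBijectionKernel c I ε x y =
      ∑ χ ∈ bset B, (ε' χ : ℂ) * (J χ : H → ℂ) y * (χ : G → ℂ) x := by
    rw [hμ, ← sum_bijOn h.1 fun χ => (ε' χ : ℂ) * (J χ : H → ℂ) y * (χ : G → ℂ) x]
    refine Finset.sum_congr rfl fun η hη => ?_
    rw [(hJ η (mem_bset.mp hη)).1, (hJ η (mem_bset.mp hη)).2]
    ring
  refine ⟨?_, ?_, ?_⟩
  · rw [← mem_localRing_iff, hμ']
    exact (hs.inCols hc hB hd' hd y).sum_mul_div_mem hB x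
  · rw [← mem_localRing_iff, hμ]
    exact (h.inCols hB hc hd hd' x).sum_mul_div_mem hc y
  · by_cases hx : p ∣ orderOf x <;> by_cases hy : p ∣ orderOf y
    · exact Or.inl ⟨fun a => absurd hx a, fun a => absurd hy a⟩
    · refine Or.inr ?_
      rw [hμ']
      exact hs.sum_eq_zero hc hd' hd hy hx
    · refine Or.inr ?_
      rw [hμ]
      exact h.sum_eq_zero hB hd hd' hx hy
    · exact Or.inl ⟨fun _ => hy, fun _ => hx⟩

end Cfsg.Agent.Lib.PerfectIso
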