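import Cfsg.Agent.Lib.PerfectIso.Section
import Cfsg.Agent.Lib.PerfectIso.Perfect
import Cfsg.Agent.Lib.BrauerPairs.SubsectionCount
import Cfsg.Agent.S4637

/-!
# The column data of a block with Klein four defect group
-/

set_option autoImplicit false
set_option linter.unusedSectionVars false
set_option linter.style.haveILetI false

namespace Cfsg.Agent.Lib.PerfectIso

open Cfsg.Agent.Lib.Blocks Cfsg.Agent.Lib.Blocks.Contrib Cfsg.Agent.Lib.BrauerChar
open Cfsg.Agent.Lib.Blocks.SectionMatrix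
open Cfsg.Agent.Lib.BrauerPairs Cfsg.Agent.Lib.BrauerPairs.Center
open Cfsg.Agent.Lib.BrauerPairs.Trunc Cfsg.Agent.Lib.BrauerPairs.Conj
open Cfsg.Agent.Lib.BrauerPairs.Pairs Cfsg.Agent.Lib.BrauerPairs.Transport
open Cfsg.Agent.Lib.BrauerPairs.Maximal Cfsg.Agent.Lib.BrauerPairs.Bridge
open Cfsg.Agent.Lib.BrauerPairs.Local Cfsg.Agent.Lib.BrauerPairs.Fusion
open Cfsg.Agent.Lib.BrauerPairs.SubsectionCount Cfsg.Agent.Lib.BrauerPairs.RankAbelian
open Cfsg.Agent.Lib.StarChar.Section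
open Cfsg.Agent.Lib.Characters.Basic

universe u

attribute [local instance] Ideal.Quotient.field

local notation "C[" P "]" => Subgroup.centralizer (P : Set _)

variable {G : Type u} [Group G] [Fintype G] {M : Ideal Cfsg.AlgInt} [M.IsMaximal]

/-- Conjugation moves the parts of all characters alike. -/
theorem exists_phi_conj {p : ℕ} [Fact p.Prime] {q r w : G} (hw : w * q * w⁻¹ = r)
    {ω : Blk (Res M) (Subgroup.centralizer (Subgroup.zpowers q : Set G))}
    {ωr : Blk (Res M) (Subgroup.centralizer (Subgroup.zpowers r : Set G))}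
    (h : bext (Subgroup.centralizer (Subgroup.zpowers r : Set G)) ωr =
      conjA w (bext (Subgroup.centralizer (Subgroup.zpowers q : Set G)) ω))
    (s : Subgroup.centralizer (Subgroup.zpowers q : Set G)) (hs : ¬ p ∣ orderOf s) :
    ∃ s' : Subgroup.centralizer (Subgroup.zpowers r : Set G), ¬ p ∣ orderOf s' ∧
      ∀ χ : Cfsg.IrrCharacter G, phi (χ : G → ℂ) r ωr s' = phi (χ : G → ℂ) q ω s := by
  subst hw
  exact ⟨conjEquiv w _ _ (StarChar.Equiv.mem_centralizer_conj w q) s,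
    by rwa [MulEquiv.orderOf_eq],
    fun χ => StarChar.NilpotentPairing.phi_conj χ w q h s⟩

variable {P : Subgroup G} {c : Blk (Res M) (Subgroup.centralizer (P : Set G))}

theorem mul_self_of_klein (hV : IsKleinFour P) {u : G} (hu : u ∈ P) : u * u = 1 := by
  haveI := hV
  have h := Monoid.pow_exponent_eq_one (⟨u, hu⟩ : P)
  rw [IsKleinFour.exponent_two, pow_two] at h
  exact congrArg Subtype.val h

theorem comm_of_klein (hV : IsKleinFour P) : ∀ x ∈ P, ∀ y ∈ P, x * y = y * x := fun x hx y hy => by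
  have hinv : ∀ u ∈ P, u⁻¹ = u := fun u hu =>
    inv_eq_of_mul_eq_one_left (mul_self_of_klein hV hu)
  have h := hinv _ (mul_mem hx hy)
  rw [mul_inv_rev, hinv x hx, hinv y hy] at h
  exact h.symm

/-- The inertial quotient of a Klein four pair is free of order one or three, and the number of
orbits decides between the two cases. -/
theorem klein_stab [CharP (Res M) 2] [Fact (Nat.Prime 2)] (htop : Top 2 (⟨P, c⟩ : Idx (Res M) G))
    (hV : IsKleinFour P) {R : Finset G} (hR : OrbitReps 2 (⟨P, c⟩ : Idx (Res M) G) R) :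
    (∀ x ∈ stab (⟨P, c⟩ : Idx (Res M) G), ∀ u ∈ P, u ≠ 1 → x * u = u * x →
      x ∈ Subgroup.centralizer (P : Set G)) ∧
    (R.card = 1 ∨ R.card = 3) ∧
    (R.card = 3 ↔ ∀ x ∈ stab (⟨P, c⟩ : Idx (Res M) G), x ∈ Subgroup.centralizer (P : Set G)) := by
  classical
  haveI := hV
  have hP4 : Nat.card P = 4 := IsKleinFour.card_four
  set T := stab (⟨P, c⟩ : Idx (Res M) G) with hTdef
  have hTN : T ≤ Subgroup.normalizer (P : Set G) := stab_le_normalizer _
  have hfix : ∀ g ∈ T, conjA g (bext (Subgroup.centralizer (P : Set G)) c) =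
      bext (Subgroup.centralizer (P : Set G)) c := fun g hg => (mem_stab_iff.mp hg).2
  have hA := S4637.range_odd P c htop (comm_of_klein hV) T hTN hfix
  set ρ := P.normalizerMonoidHom.comp (Subgroup.inclusion hTN) with hρ
  have hker : ρ.ker = (Subgroup.centralizer (P : Set G)).subgroupOf T := by
    rw [hρ, ← MonoidHom.comap_ker, Subgroup.normalizerMonoidHom_ker]
    rfl
  obtain ⟨hfreeA, hcardA⟩ := S4637.klein_aut (P := P) hP4
    (fun u hu => mul_self_of_klein hV hu) ρ.range hA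
  have hfree : ∀ x ∈ T, ∀ u ∈ P, u ≠ 1 → x * u = u * x →
      x ∈ Subgroup.centralizer (P : Set G) := by
    intro x hx u hu hu1 hxu
    have h1 : ρ ⟨x, hx⟩ = 1 := hfreeA _ ⟨_, rfl⟩ ⟨u, hu⟩
      (fun h => hu1 (congrArg Subtype.val h)) (Subtype.ext (mul_inv_eq_iff_eq_mul.mpr hxu))
    have h2 : (⟨x, hx⟩ : T) ∈ ρ.ker := h1
    rw [hker] at h2
    exact h2
  have htriv : (∀ x ∈ T, x ∈ Subgroup.centralizer (P : Set G)) → R.card = 3 := by
    intro h
    have e : R = (Finset.univ.filter fun u : G => u ∈ P).erase 1 := by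
      ext u
      rw [Finset.mem_erase, Finset.mem_filter]
      refine ⟨fun hu => ⟨hR.ne_one u hu, Finset.mem_univ _, hR.mem u hu⟩, fun ⟨hu1, _, hu⟩ => ?_⟩
      obtain ⟨r, hr, t, ht, e⟩ := hR.exists_conj u hu hu1
      have e2 : t * u * t⁻¹ = u :=
        mul_inv_eq_iff_eq_mul.mpr (Subgroup.mem_centralizer_iff.mp (h t ht) u hu).symm
      rw [e2] at e
      exact e ▸ hr
    rw [e, Finset.card_erase_of_mem (by simp), ← Fintype.card_subtype,
      ← Nat.card_eq_fintype_card]
    omega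
  refine ⟨hfree, ?_⟩
  rcases hcardA with h1 | h3
  · have h : ∀ x ∈ T, x ∈ Subgroup.centralizer (P : Set G) := by
      intro x hx
      have h2 : ρ ⟨x, hx⟩ = 1 := by
        have hb : ρ.range = ⊥ := Subgroup.card_eq_one.mp h1
        have hm : ρ ⟨x, hx⟩ ∈ ρ.range := ⟨_, rfl⟩
        rw [hb] at hm
        exact hm
      have h3 : (⟨x, hx⟩ : T) ∈ ρ.ker := h2
      rw [hker] at h3
      exact h3
    exact ⟨Or.inr (htriv h), fun _ => h, fun _ => htriv h⟩
  · have hR1 : R.card = 1 := by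
      obtain ⟨u₀, hu₀, hu₀1⟩ : ∃ u, u ∈ P ∧ u ≠ 1 := by
        by_contra h
        simp only [not_exists, not_and, not_not] at h
        rw [(Subgroup.eq_bot_iff_forall P).mpr h, Subgroup.card_bot] at hP4
        omega
      have htrans : ∀ u ∈ P, u ≠ 1 → ∃ t ∈ T, t * u₀ * t⁻¹ = u := by
        intro u hu hu1
        obtain ⟨a, ⟨t, ht⟩, h2⟩ := S4637.klein_trans hP4 ρ.range hfreeA h3 ⟨u₀, hu₀⟩ ⟨u, hu⟩
          (fun h => hu₀1 (congrArg Subtype.val h)) (fun h => hu1 (congrArg Subtype.val h))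
        refine ⟨(t : G), t.2, ?_⟩
        rw [← ht] at h2
        exact congrArg Subtype.val h2
      rw [Finset.card_eq_one]
      obtain ⟨r, hr, -, -, -⟩ := hR.exists_conj u₀ hu₀ hu₀1
      refine ⟨r, Finset.eq_singleton_iff_unique_mem.mpr ⟨hr, fun s hs => ?_⟩⟩
      obtain ⟨t, ht, e1⟩ := htrans r (hR.mem r hr) (hR.ne_one r hr)
      obtain ⟨v, hv, e2⟩ := htrans s (hR.mem s hs) (hR.ne_one s hs)
      refine hR.unique s hs r hr (t * v⁻¹) (mul_mem ht (inv_mem hv)) ?_
      rw [← e2, ← e1]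
      group
    exact ⟨Or.inl hR1, fun h => by omega, fun h => htriv h⟩

/-- A block with Klein four defect group has four characters. -/
theorem klein_card [CharP (Res M) 2] [Fact (Nat.Prime 2)] (hM : Cfsg.IsPModular 2 M)
    {ψ : Blk (Res M) G} (htop : Top 2 (⟨P, c⟩ : Idx (Res M) G))
    (hψ : PairOf 2 ψ (⟨P, c⟩ : Idx (Res M) G)) (hV : IsKleinFour P)
    {R : Finset G} (hR : OrbitReps 2 (⟨P, c⟩ : Idx (Res M) G) R) :
    Nat.card (toSet ψ) = 4 := by
  classical
  haveI := hV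
  have hP4 : Nat.card P = 4 := IsKleinFour.card_four
  have hab := comm_of_klein hV
  obtain ⟨hfree, h13, h3⟩ := klein_stab htop hV hR
  rcases h13 with h1 | h
  · obtain ⟨r, rfl⟩ := Finset.card_eq_one.mp h1
    have hr := hR.mem r (Finset.mem_singleton_self r)
    have hr1 := hR.ne_one r (Finset.mem_singleton_self r)
    haveI := Fintype.ofFinite (Subgroup.centralizer (Subgroup.zpowers r : Set G))
    have hl := blockRank_localBlk hM htop hab hr (fun x hx h => hfree x hx r hr hr1 h)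
    have hdd := blockDefect_localBlk hM htop hψ hab hr
    have hBd : Cfsg.blockDefect 2 (toSet ψ) = 2 := by
      have := card_top hM htop hψ
      rw [hP4] at this
      exact Nat.pow_right_injective le_rfl (show 2 ^ _ = 2 ^ 2 from this.symm)
    exact S4637.card_eq_four hM
      (x := (⟨r, le_centralizer_zpowers hab hr hr⟩ :
        Subgroup.centralizer (Subgroup.zpowers r : Set G)))
      ⟨by
        obtain ⟨k, hk⟩ := IsPGroup.iff_orderOf.mp htop.1 ⟨r, hr⟩
        exact ⟨k, (Subgroup.orderOf_coe (⟨r, hr⟩ : P)).trans hk⟩, rfl⟩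
      (Subtype.ext (mul_self_of_klein hV hr)) (isInducedBlock_localBlk hM htop.1 hψ hab hr) hdd
      (hdd.trans hBd) hl.1
  · exact (RankAbelian.good hM (G := G) P c ψ htop hψ hab (h3.mp h)).2.trans hP4

set_option maxHeartbeats 1000000 in
/-- The column data of a block with Klein four defect group. -/
theorem klein_data [CharP (Res M) 2] [Fact (Nat.Prime 2)] (hM : Cfsg.IsPModular 2 M)
    {ψ : Blk (Res M) G} (htop : Top 2 (⟨P, c⟩ : Idx (Res M) G))
    (hψ : PairOf 2 ψ (⟨P, c⟩ : Idx (Res M) G)) (hV : IsKleinFour P)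
    {R : Finset G} (hR : OrbitReps 2 (⟨P, c⟩ : Idx (Res M) G) R) :
    ∃ d : {r // r ∈ R} → Cfsg.IrrCharacter G → ℤ, IsColData hM (toSet ψ) d ∧
      ∀ r, ∀ χ ∈ toSet ψ, d r χ = 1 ∨ d r χ = -1 := by
  classical
  haveI := hV
  have hP4 : Nat.card P = 4 := IsKleinFour.card_four
  have hab := comm_of_klein hV
  have hP := htop.1
  have hB := isPBlock_toSet ψ
  obtain ⟨hfree, -, -⟩ := klein_stab htop hV hR
  have hk4 := klein_card hM htop hψ hV hR
  haveI : ∀ q : G, Fintype (Subgroup.centralizer (Subgroup.zpowers q : Set G)) :=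
    fun q => Fintype.ofFinite _
  let ω : ∀ r : {r // r ∈ R}, Blk (Res M) (Subgroup.centralizer (Subgroup.zpowers r.1 : Set G)) :=
    fun r => localBlk c hP hab (hR.mem r.1 r.2)
  have hl : ∀ r, Cfsg.blockRank 2 (toSet (ω r)) = 1 ∧ Nat.card (toSet (ω r)) = Nat.card P :=
    fun r => blockRank_localBlk hM htop hab (hR.mem r.1 r.2)
      fun x hx h => hfree x hx r.1 (hR.mem r.1 r.2) (hR.ne_one r.1 r.2) h
  have hd2 : ∀ r, Cfsg.blockDefect 2 (toSet (ω r)) = 2 := fun r => by
    have h := card_top hM htop hψ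
    rw [hP4] at h
    rw [blockDefect_localBlk hM htop hψ hab (hR.mem r.1 r.2)]
    exact Nat.pow_right_injective le_rfl (show 2 ^ _ = 2 ^ 2 from h.symm)
  let x : ∀ r : {r // r ∈ R}, Subgroup.centralizer (Subgroup.zpowers r.1 : Set G) :=
    fun r => ⟨r.1, le_centralizer_zpowers hab (hR.mem r.1 r.2) (hR.mem r.1 r.2)⟩
  have hx : ∀ r, Pelt 2 (x r) := fun r => ⟨by
    obtain ⟨k, hk⟩ := IsPGroup.iff_orderOf.mp hP ⟨r.1, hR.mem r.1 r.2⟩
    exact ⟨k, (Subgroup.orderOf_coe (⟨r.1, hR.mem r.1 r.2⟩ : P)).trans hk⟩, rfl⟩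
  have hx2 : ∀ r, x r * x r = 1 := fun r =>
    Subtype.ext (mul_self_of_klein hV (hR.mem r.1 r.2))
  have hord : ∀ r : {r // r ∈ R}, 2 ∣ orderOf r.1 := fun r => by
    rw [orderOf_eq_prime (by rw [pow_two, mul_self_of_klein hV (hR.mem r.1 r.2)])
      (hR.ne_one r.1 r.2)]
  have hf : ∀ r, Nonempty {f : IBr M 2 (Subgroup.centralizer (Subgroup.zpowers r.1 : Set G)) //
      InBlock (toSet (ω r)) f} := fun r =>
    (Nat.card_ne_zero.mp (by rw [card_inBlock hM (isPBlock_toSet _), (hl r).1]; norm_num)).1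
  let f := fun r => (hf r).some
  let d : {r // r ∈ R} → Cfsg.IrrCharacter G → ℤ := fun r => secC hM (x r) (ω r) (f r).1
  have hne : ∀ r, ∀ χ ∈ toSet ψ, d r χ ≠ 0 := fun r χ hχ => by
    refine secC_ne_zero hM rfl (hx r) (hx2 r) (hl r).1 (f r) ?_
    refine StarChar.Free.exists_phi_ne_zero_central hM hB hχ htop ?_ (hR.mem r.1 r.2) ?_ (ω r)
      (le_localBlk hP hab (hR.mem r.1 r.2))
    · rw [blk_toSet]; exact hψ
    · exact Subgroup.mem_centralizer_iff.mpr fun y hy => hab y hy r.1 (hR.mem r.1 r.2)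
  refine ⟨d, ⟨fun r => inCols_secC hM rfl (hx r) (hx2 r) (hl r).1 (f r) _, fun g hg => ?_,
    fun e r => sum_dnum_secC hM rfl (hx r) (hx2 r) (hl r).1 (f r) (hord r) hB e⟩,
    fun r χ hχ => ?_⟩
  · -- the singular columns
    obtain ⟨s, hs, hc, hq, hs'⟩ := StarChar.Comp.isPPart_pp (p := 2) g
    set q := StarChar.Comp.pp 2 g with hqdef
    have hq1 : q ≠ 1 := by
      intro e
      rw [e, one_mul] at hs
      exact hs' (hs ▸ hg)
    have hsC : s ∈ Subgroup.centralizer (Subgroup.zpowers q : Set G) := by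
      rw [StarChar.Theta.centralizer_zpowers, Subgroup.mem_centralizer_singleton_iff]
      exact hc.symm.eq
    have hsr : ¬ 2 ∣ orderOf (⟨s, hsC⟩ : Subgroup.centralizer (Subgroup.zpowers q : Set G)) := by
      rwa [← Subgroup.orderOf_coe]
    haveI := Fintype.ofFinite (Blk (Res M) (Subgroup.centralizer (Subgroup.zpowers q : Set G)))
    have hval : ∀ χ : Cfsg.IrrCharacter G, (χ : G → ℂ) g =
        ∑ w : Blk (Res M) (Subgroup.centralizer (Subgroup.zpowers q : Set G)),
          phi (χ : G → ℂ) q w ⟨s, hsC⟩ := fun χ => by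
      have h := star_mul (M := M) χ (fun _ _ => (1 : ℂ)) hq hsr
      rw [StarChar.Comp.star_of_eq_one χ _ (fun _ _ => rfl)] at h
      simp only [one_mul] at h
      rw [← h, hs]
    have hterm : ∀ w : Blk (Res M) (Subgroup.centralizer (Subgroup.zpowers q : Set G)),
        ∃ a : {r // r ∈ R} → ℂ, (∀ r, a r ∈ localRing M) ∧ ∀ χ ∈ toSet ψ,
          phi (χ : G → ℂ) q w ⟨s, hsC⟩ = ∑ r, a r * (d r χ : ℂ) := by
      intro w
      by_cases hpw : PairOf 2 ψ (⟨Subgroup.zpowers q, w⟩ : Idx (Res M) G)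
      · obtain ⟨t, ht⟩ := exists_le_conj_top hpw htop hψ
        have hu : t * q * t⁻¹ ∈ P := ht.subgroup_le ⟨q, Subgroup.mem_zpowers q, rfl⟩
        obtain ⟨r, hrR, v, hv, hvr⟩ := hR.exists_conj _ hu (fun h => hq1 (conj_eq_one_iff.mp h))
        have h2 := le_cPair v ht
        rw [mem_stab.mp hv, ← cPair_mul] at h2
        have e0 : (v * t) * q * (v * t)⁻¹ = r := by rw [← hvr]; group
        have e2 : cPair (v * t) (⟨Subgroup.zpowers q, w⟩ : Idx (Res M) G) =
            ⟨Subgroup.zpowers r, ω ⟨r, hrR⟩⟩ := by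
          refine Fusion.eq_of_le_of_le hP ?_ h2 (le_localBlk hP hab (hR.mem r hrR))
          show (Subgroup.zpowers q).map (MulAut.conj (v * t)).toMonoidHom = Subgroup.zpowers r
          rw [MonoidHom.map_zpowers, ← e0]
          rfl
        have e3 := congrArg (fun a : Idx (Res M) G =>
          bext (Subgroup.centralizer (a.1 : Set G)) a.2) e2
        rw [bext_cPair] at e3
        obtain ⟨s', hs2, hphi⟩ := exists_phi_conj (p := 2) e0 e3.symm ⟨s, hsC⟩ hsr
        refine ⟨fun i => if i = ⟨r, hrR⟩ then (f ⟨r, hrR⟩).1.1 s' else 0, fun i => ?_,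
          fun χ _ => ?_⟩
        · beta_reduce
          split_ifs
          · rw [← (f ⟨r, hrR⟩).1.bchar_rep]
            exact algInt_mem_localRing _
          · exact zero_mem _
        · simp only [ite_mul, zero_mul, Finset.sum_ite_eq', Finset.mem_univ, if_true]
          rw [← hphi χ, phi_eq hM rfl (hx ⟨r, hrR⟩) (hx2 ⟨r, hrR⟩) (hl ⟨r, hrR⟩).1
            (f ⟨r, hrR⟩) χ hs2, mul_comm]
      · refine ⟨0, fun _ => zero_mem _, fun χ hχ => ?_⟩
        rw [phi_eq_zero χ hM hq w (by rwa [mem_toSet.mp hχ]) hsr]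
        simp
    choose a ha hva using hterm
    refine ⟨fun r => ∑ w, a w r, fun r => sum_mem fun w _ => ha w r, fun χ hχ => ?_⟩
    rw [hval χ, Finset.sum_congr rfl fun w _ => hva w χ hχ, Finset.sum_comm]
    exact Finset.sum_congr rfl fun r _ => (Finset.sum_mul _ _ _).symm
  · -- the entries are signs
    have hsum := sum_secC_sq hM rfl (hx r) (hx2 r) (hl r).1 (f r)
      (isInducedBlock_localBlk hM hP hψ hab (hR.mem r.1 r.2))
      (by rw [(hl r).2, hP4, hd2]; norm_num)
    rw [hd2] at hsum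
    have h1 : ∀ φ ∈ bset (toSet ψ), 1 ≤ d r φ * d r φ := fun φ hφ =>
      Int.add_one_le_iff.mpr (lt_of_le_of_ne (mul_self_nonneg _)
        (mul_ne_zero (hne r φ (mem_bset.mp hφ)) (hne r φ (mem_bset.mp hφ))).symm)
    have h2 : ∑ φ ∈ bset (toSet ψ), (d r φ * d r φ - 1) = 0 := by
      rw [Finset.sum_sub_distrib, Finset.sum_const, card_bset, hk4]
      simp only [d]
      rw [hsum]
      norm_num
    have h3 := (Finset.sum_eq_zero_iff_of_nonneg fun φ hφ => sub_nonneg.mpr (h1 φ hφ)).mp h2 χ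
      (mem_bset.mpr hχ)
    exact mul_self_eq_one_iff.mp (sub_eq_zero.mp h3)

end Cfsg.Agent.Lib.PerfectIso
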