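import Cfsg.Agent.Lib.PerfectIso.Perfect

/-!
# Matching four-point sign vectors

Two blocks with four characters and one, respectively three, sign vectors can be matched.
-/

set_option autoImplicit false
set_option linter.unusedSectionVars false
set_option linter.style.haveILetI false

namespace Cfsg.Agent.Lib.PerfectIso

open Cfsg.Agent.Lib.Blocks.Contrib Cfsg.Agent.Lib.BrauerChar

universe u v w

attribute [local instance] Ideal.Quotient.field

variable {G : Type u} [Group G] [Finite G] {H : Type v} [Group H] [Finite H]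

/-- One vector each. -/
theorem exists_match_one {R R' : Type w} {B : Set (Cfsg.IrrCharacter G)}
    {c : Set (Cfsg.IrrCharacter H)} {d : R → Cfsg.IrrCharacter G → ℤ}
    {d' : R' → Cfsg.IrrCharacter H → ℤ} [Nonempty (Cfsg.IrrCharacter G)] {r : R} {r' : R'}
    (hr : ∀ s, s = r) (hr' : ∀ s, s = r') (hd : ∀ χ ∈ B, d r χ = 1 ∨ d r χ = -1)
    (hd' : ∀ η ∈ c, d' r' η = 1 ∨ d' r' η = -1) (hcard : Nat.card c = Nat.card B) :
    ∃ (I : Cfsg.IrrCharacter H → Cfsg.IrrCharacter G) (ε : Cfsg.IrrCharacter H → ℤ),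
      Matches B c d d' I ε := by
  classical
  obtain ⟨e⟩ : Nonempty (c ≃ B) := ⟨(Finite.card_eq.mp hcard).some⟩
  refine ⟨fun η => if h : η ∈ c then (e ⟨η, h⟩ : Cfsg.IrrCharacter G) else Classical.arbitrary _,
    fun η => if h : η ∈ c then d r (e ⟨η, h⟩ : Cfsg.IrrCharacter G) * d' r' η else 1,
    ⟨fun η hη => ?_, fun a ha b hb h => ?_, fun χ hχ => ?_⟩, fun η hη => ?_,
    fun s => ⟨r, 1, Or.inl rfl, fun η hη => ?_⟩, fun s => ⟨r', 1, Or.inl rfl, fun η hη => ?_⟩⟩
  · simp only [dif_pos hη]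
    exact (e ⟨η, hη⟩).2
  · simp only [dif_pos ha, dif_pos hb] at h
    exact congrArg Subtype.val (e.injective (Subtype.ext h))
  · refine ⟨(e.symm ⟨χ, hχ⟩ : Cfsg.IrrCharacter H), (e.symm ⟨χ, hχ⟩).2, ?_⟩
    simp only [dif_pos (e.symm ⟨χ, hχ⟩).2, Subtype.coe_eta, Equiv.apply_symm_apply]
  · simp only [dif_pos hη]
    rcases hd _ (e ⟨η, hη⟩).2 with h1 | h1 <;> rcases hd' η hη with h2 | h2 <;> simp [h1, h2]
  all_goals
    simp only [dif_pos hη]
    first
      | rw [hr' s]
      | rw [hr s]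
    rcases hd _ (e ⟨η, hη⟩).2 with h1 | h1 <;> rcases hd' η hη with h2 | h2 <;> simp [h1, h2]

/-- The sign of a Boolean. -/
def sgn (b : Bool) : ℤ := if b then 1 else -1

/-- Three balanced sign vectors on four points, no two equal up to sign. -/
theorem exists_frame {α : Type u} [Fintype α] (hα : Fintype.card α = 4) (u : Fin 3 → α → ℤ)
    (hpm : ∀ i a, u i a = 1 ∨ u i a = -1) (h0 : ∀ i, ∑ a, u i a = 0)
    (hne : ∀ i j, i ≠ j → ∀ δ : ℤ, (δ = 1 ∨ δ = -1) → ∃ a, u i a ≠ δ * u j a) :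
    ∃ e : Bool × Bool ≃ α, ∃ δ : ℤ, (δ = 1 ∨ δ = -1) ∧
      (∀ z, u 0 (e z) = sgn z.1) ∧ (∀ z, u 1 (e z) = sgn z.2) ∧
      ∀ z, u 2 (e z) = δ * (sgn z.1 * sgn z.2) := by
  classical
  let π : α → Bool × Bool := fun a => (decide (u 0 a = 1), decide (u 1 a = 1))
  have hs : ∀ i a, sgn (decide (u i a = 1)) = u i a := fun i a => by
    rcases hpm i a with h | h <;> simp [sgn, h]
  have hinj : Function.Injective π := by
    intro a b hab
    by_contra hne'
    have h0a : u 0 a = u 0 b := by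
      rw [← hs 0 a, ← hs 0 b]; exact congrArg sgn (congrArg Prod.fst hab)
    have h1a : u 1 a = u 1 b := by
      rw [← hs 1 a, ← hs 1 b]; exact congrArg sgn (congrArg Prod.snd hab)
    -- the two other points take the opposite values
    have hoth : ∀ i, u i a = u i b → ∀ x, x ≠ a → x ≠ b → u i x = - u i a := by
      intro i hi x hxa hxb
      have hcard : ((Finset.univ.erase a).erase b).card = 2 := by
        rw [Finset.card_erase_of_mem (Finset.mem_erase.mpr ⟨Ne.symm hne', Finset.mem_univ _⟩),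
          Finset.card_erase_of_mem (Finset.mem_univ _), Finset.card_univ, hα]
      obtain ⟨y, z, hyz, he⟩ := Finset.card_eq_two.mp hcard
      have hsum := h0 i
      rw [← Finset.add_sum_erase _ _ (Finset.mem_univ a),
        ← Finset.add_sum_erase _ _ (Finset.mem_erase.mpr ⟨Ne.symm hne', Finset.mem_univ b⟩), he,
        Finset.sum_pair hyz] at hsum
      have hx : x = y ∨ x = z := by
        have : x ∈ (Finset.univ.erase a).erase b := by simp [hxa, hxb]
        rw [he] at this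
        simpa using this
      rcases hpm i a with h | h <;> rcases hpm i y with h1 | h1 <;> rcases hpm i z with h2 | h2 <;>
        rcases hx with rfl | rfl <;> omega
    obtain ⟨x, hx⟩ := hne 0 1 (by decide) (u 0 a * u 1 a) (by
      rcases hpm 0 a with h | h <;> rcases hpm 1 a with h' | h' <;> simp [h, h'])
    apply hx
    have h11 : u 1 a * u 1 a = 1 := by rcases hpm 1 a with h | h <;> simp [h]
    by_cases hxa : x = a
    · subst hxa; rw [mul_assoc, h11, mul_one]
    by_cases hxb : x = b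
    · subst hxb; rw [← h0a, ← h1a, mul_assoc, h11, mul_one]
    rw [hoth 0 h0a x hxa hxb, hoth 1 h1a x hxa hxb]
    linear_combination (u 0 a) * h11
  have hbij : Function.Bijective π :=
    (Fintype.bijective_iff_injective_and_card π).mpr ⟨hinj, by simp [hα]⟩
  let e : Bool × Bool ≃ α := (Equiv.ofBijective π hbij).symm
  have he : ∀ z, π (e z) = z := fun z => (Equiv.ofBijective π hbij).apply_symm_apply z
  have e0 : ∀ z, u 0 (e z) = sgn z.1 := fun z => by
    rw [← hs 0 (e z)]; exact congrArg sgn (congrArg Prod.fst (he z))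
  have e1 : ∀ z, u 1 (e z) = sgn z.2 := fun z => by
    rw [← hs 1 (e z)]; exact congrArg sgn (congrArg Prod.snd (he z))
  refine ⟨e, u 2 (e (true, true)), hpm 2 _, e0, e1, ?_⟩
  have hsum : u 2 (e (true, true)) + u 2 (e (true, false)) + u 2 (e (false, true)) +
      u 2 (e (false, false)) = 0 := by
    rw [← h0 2, ← Equiv.sum_comp e, Fintype.sum_prod_type]
    simp only [Fintype.sum_bool]
    ring
  have hno : ∀ j : Fin 3, j ≠ 2 → ∀ δ : ℤ, (δ = 1 ∨ δ = -1) →
      ¬ ∀ z, u 2 (e z) = δ * u j (e z) := by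
    intro j hj δ hδ h
    obtain ⟨x, hx⟩ := hne 2 j (Ne.symm hj) δ hδ
    refine hx ?_
    rw [← e.apply_symm_apply x]
    exact h _
  have ext : ∀ f g : Bool × Bool → ℤ, f (true, true) = g (true, true) →
      f (true, false) = g (true, false) → f (false, true) = g (false, true) →
      f (false, false) = g (false, false) → ∀ z, f z = g z := by
    intro f g p1 p2 p3 p4 z
    obtain ⟨_ | _, _ | _⟩ := z <;> assumption
  have k : ∀ (j : Fin 3), j ≠ 2 → ∀ δ : ℤ, (δ = 1 ∨ δ = -1) →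
      ¬ (u 2 (e (true, true)) = δ * u j (e (true, true)) ∧
        u 2 (e (true, false)) = δ * u j (e (true, false)) ∧
        u 2 (e (false, true)) = δ * u j (e (false, true)) ∧
        u 2 (e (false, false)) = δ * u j (e (false, false))) := fun j hj δ hδ ⟨p1, p2, p3, p4⟩ =>
    hno j hj δ hδ (ext _ (fun z => δ * u j (e z)) p1 p2 p3 p4)
  have k1 := k 0 (by decide) 1 (Or.inl rfl)
  have k2 := k 0 (by decide) (-1) (Or.inr rfl)
  have k3 := k 1 (by decide) 1 (Or.inl rfl)
  have k4 := k 1 (by decide) (-1) (Or.inr rfl)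
  simp only [e0, e1, sgn, if_true, Bool.false_eq_true, if_false] at k1 k2 k3 k4
  refine ext (fun z => u 2 (e z))
    (fun z => u 2 (e (true, true)) * (sgn z.1 * sgn z.2)) ?_ ?_ ?_ ?_
  all_goals simp only [sgn, if_true, Bool.false_eq_true, if_false]
  all_goals
    rcases hpm 2 (e (true, true)) with a1 | a1 <;> rcases hpm 2 (e (true, false)) with a2 | a2 <;>
      rcases hpm 2 (e (false, true)) with a3 | a3 <;>
      rcases hpm 2 (e (false, false)) with a4 | a4 <;> omega

/-- Three vectors each. -/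
theorem exists_match_three {R R' : Type w} {B : Set (Cfsg.IrrCharacter G)}
    {c : Set (Cfsg.IrrCharacter H)} {d : R → Cfsg.IrrCharacter G → ℤ}
    {d' : R' → Cfsg.IrrCharacter H → ℤ} [Nonempty (Cfsg.IrrCharacter G)]
    (σ : Fin 3 ≃ R) (σ' : Fin 3 ≃ R')
    (hf : ∃ e : Bool × Bool ≃ B, ∃ δ : ℤ, (δ = 1 ∨ δ = -1) ∧
      (∀ z, d (σ 0) (e z) = sgn z.1) ∧ (∀ z, d (σ 1) (e z) = sgn z.2) ∧
      ∀ z, d (σ 2) (e z) = δ * (sgn z.1 * sgn z.2))
    (hf' : ∃ e : Bool × Bool ≃ c, ∃ δ : ℤ, (δ = 1 ∨ δ = -1) ∧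
      (∀ z, d' (σ' 0) (e z) = sgn z.1) ∧ (∀ z, d' (σ' 1) (e z) = sgn z.2) ∧
      ∀ z, d' (σ' 2) (e z) = δ * (sgn z.1 * sgn z.2)) :
    ∃ (I : Cfsg.IrrCharacter H → Cfsg.IrrCharacter G) (ε : Cfsg.IrrCharacter H → ℤ),
      Matches B c d d' I ε := by
  classical
  obtain ⟨eB, δB, hδB, b0, b1, b2⟩ := hf
  obtain ⟨ec, δc, hδc, c0, c1, c2⟩ := hf'
  let e : c ≃ B := ec.symm.trans eB
  have he : ∀ i : Fin 3, ∃ δ : ℤ, (δ = 1 ∨ δ = -1) ∧ ∀ η : c,
      (1 : ℤ) * d (σ i) (e η) = δ * d' (σ' i) η := by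
    intro i
    have hη : ∀ η : c, ∃ z, η = ec z := fun η => ⟨ec.symm η, (ec.apply_symm_apply η).symm⟩
    fin_cases i
    · refine ⟨1, Or.inl rfl, fun η => ?_⟩
      obtain ⟨z, rfl⟩ := hη η
      simp [e, b0, c0]
    · refine ⟨1, Or.inl rfl, fun η => ?_⟩
      obtain ⟨z, rfl⟩ := hη η
      simp [e, b1, c1]
    · refine ⟨δB * δc, by rcases hδB with rfl | rfl <;> rcases hδc with rfl | rfl <;> simp,
        fun η => ?_⟩
      obtain ⟨z, rfl⟩ := hη η
      simp [e, b2, c2]
      rcases hδc with rfl | rfl <;> ring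
  refine ⟨fun η => if h : η ∈ c then (e ⟨η, h⟩ : Cfsg.IrrCharacter G) else Classical.arbitrary _,
    fun _ => 1, ⟨fun η hη => ?_, fun a ha b hb h => ?_, fun χ hχ => ?_⟩,
    fun η _ => Or.inl rfl, fun s => ?_, fun s => ?_⟩
  · simp only [dif_pos hη]
    exact (e ⟨η, hη⟩).2
  · simp only [dif_pos ha, dif_pos hb] at h
    exact congrArg Subtype.val (e.injective (Subtype.ext h))
  · refine ⟨(e.symm ⟨χ, hχ⟩ : Cfsg.IrrCharacter H), (e.symm ⟨χ, hχ⟩).2, ?_⟩
    simp only [dif_pos (e.symm ⟨χ, hχ⟩).2, Subtype.coe_eta, Equiv.apply_symm_apply]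
  · obtain ⟨δ, hδ, h⟩ := he (σ'.symm s)
    refine ⟨σ (σ'.symm s), δ, hδ, fun η hη => ?_⟩
    have := h ⟨η, hη⟩
    rw [Equiv.apply_symm_apply] at this
    simpa [dif_pos hη] using this
  · obtain ⟨δ, hδ, h⟩ := he (σ.symm s)
    refine ⟨σ' (σ.symm s), δ, hδ, fun η hη => ?_⟩
    have := h ⟨η, hη⟩
    rw [Equiv.apply_symm_apply] at this
    simpa [dif_pos hη] using this

variable {M : Ideal Cfsg.AlgInt} [M.IsMaximal] {p : ℕ} [Fact p.Prime]
  {hM : Cfsg.IsPModular p M}

/-- In a block with one Brauer character and `p ^ d` characters three spanning sign vectors form a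
frame. -/
theorem exists_frame_of_data {R : Type w} [Fintype R] {B : Set (Cfsg.IrrCharacter G)}
    {d : R → Cfsg.IrrCharacter G → ℤ} (hd : IsColData hM B d) (hB : Cfsg.IsPBlock M B)
    (hl : Cfsg.blockRank p B = 1) (hk : Nat.card B = p ^ Cfsg.blockDefect p B)
    (hk4 : Nat.card B = 4) (hpm : ∀ r, ∀ χ ∈ B, d r χ = 1 ∨ d r χ = -1) (σ : Fin 3 ≃ R) :
    ∃ e : Bool × Bool ≃ B, ∃ δ : ℤ, (δ = 1 ∨ δ = -1) ∧
      (∀ z, d (σ 0) (e z) = sgn z.1) ∧ (∀ z, d (σ 1) (e z) = sgn z.2) ∧
      ∀ z, d (σ 2) (e z) = δ * (sgn z.1 * sgn z.2) := by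
  classical
  haveI := finite_ibr (G := G) hM
  haveI := Fintype.ofFinite {f : IBr M p G // InBlock B f}
  haveI := Fintype.ofFinite B
  let β := {χ : Cfsg.IrrCharacter G // χ ∈ bset B}
  have hlcard : Fintype.card {f : IBr M p G // InBlock B f} = 1 := by
    rw [← Nat.card_eq_fintype_card, card_inBlock hM hB, hl]
  have hli := linearIndependent_of_top_le_span_of_card_eq_finrank
    (top_le_span hM hB d fun g hg => by
      obtain ⟨c, -, hc⟩ := hd.singular g hg
      exact ⟨c, hc⟩) (by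
      rw [Module.finrank_fintype_fun_eq_card, Fintype.card_sum, Fintype.card_coe, card_bset, hk4,
        hlcard, ← Fintype.card_congr σ, Fintype.card_fin])
  obtain ⟨f⟩ : Nonempty {f : IBr M p G // InBlock B f} := Fintype.card_pos_iff.mp (by omega)
  refine exists_frame (α := B) (by rw [← Nat.card_eq_fintype_card, hk4])
    (fun i χ => d (σ i) χ) (fun i χ => hpm _ _ χ.2) (fun i => ?_) (fun i j hij δ hδ => ?_)
  · have h := hd.orth f.1 (σ i)
    rw [Finset.sum_congr rfl fun χ hχ => by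
      rw [dnum_eq_one hM hB hl hk f (mem_bset.mp hχ), Nat.cast_one, one_mul]] at h
    rw [← Finset.sum_subtype (bset B) (fun χ => mem_bset) fun χ => d (σ i) χ]
    exact_mod_cast h
  · by_contra h
    push Not at h
    have h3 := Fintype.linearIndependent_iff.mp hli
      (Sum.elim 0 fun r => (if r = σ i then (1 : ℂ) else 0) - (if r = σ j then (δ : ℂ) else 0))
      (funext fun χ => by
        simp [Fintype.sum_sum_type]
        simp only [sub_mul, ite_mul, one_mul, zero_mul, Finset.sum_sub_distrib,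
          Finset.sum_ite_eq', Finset.mem_univ, if_true]
        have h' : d (σ i) χ.1 = δ * d (σ j) χ.1 := h ⟨χ.1, mem_bset.mp χ.2⟩
        rw [h']
        push_cast
        ring) (Sum.inr (σ i))
    simp [hij] at h3

end Cfsg.Agent.Lib.PerfectIso
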