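import Cfsg.Agent.Lib.PerfectIso.Columns
import Cfsg.Agent.Lib.StarChar.Free
import Cfsg.Agent.Lib.StarChar.NilpotentPairing

/-!
# The column of an involution section of a block of rank one

For an involution `q` and a block `ω` of `C(q)` with one irreducible Brauer character `f`, the
part of `χ` in `ω` at `q * s` is `secC χ * f s` for an integer `secC χ`.
-/

set_option autoImplicit false
set_option linter.unusedSectionVars false
set_option linter.style.haveILetI false

namespace Cfsg.Agent.Lib.PerfectIso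

open MonoidAlgebra
open Cfsg.Agent.Lib.Blocks Cfsg.Agent.Lib.Blocks.Contrib Cfsg.Agent.Lib.Blocks.SectionPart
open Cfsg.Agent.Lib.Blocks.SectionMatrix Cfsg.Agent.Lib.Blocks.BlockPart
open Cfsg.Agent.Lib.BrauerPairs.Bridge Cfsg.Agent.Lib.BrauerPairs.Center
open Cfsg.Agent.Lib.BrauerPairs.Pairs Cfsg.Agent.Lib.BrauerChar
open Cfsg.Agent.Lib.StarChar.Section
open Cfsg.Agent.Lib.StarChar.Fixed Cfsg.Agent.Lib.StarChar.Comp
open Cfsg.Agent.Lib.Characters.Basic

universe u

attribute [local instance] Ideal.Quotient.field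

variable {G : Type u} [Group G] [Fintype G] {M : Ideal Cfsg.AlgInt} [M.IsMaximal]
  {p : ℕ} [Fact p.Prime]

local notation "C[" P "]" => Subgroup.centralizer ((P : Subgroup G) : Set G)

variable {q : G} [Fintype (Subgroup.centralizer (Subgroup.zpowers q : Set G))]

open scoped Classical in
/-- The coefficient of `χ` at the section of `q` in a block of rank one. -/
noncomputable def secC (hM : Cfsg.IsPModular p M) (x : C[Subgroup.zpowers q])
    (ω : Blk (Res M) C[Subgroup.zpowers q]) (f : IBr M p C[Subgroup.zpowers q])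
    (χ : Cfsg.IrrCharacter G) : ℤ :=
  ∑ θ ∈ bset (toSet ω), (mult C[Subgroup.zpowers q] χ θ : ℤ) *
    (if lam x θ = 1 then 1 else -1) * (dnum hM θ f : ℤ)

theorem lam_eq {x : C[Subgroup.zpowers q]} (hx : Pelt p x) (hx2 : x * x = 1)
    (θ : Cfsg.IrrCharacter C[Subgroup.zpowers q]) :
    lam x θ = ((@ite ℤ (lam x θ = 1) (Classical.dec _) 1 (-1) : ℤ) : ℂ) := by
  classical
  have h := lam_pow hx.commute (n := 2) (by rw [pow_two, hx2]) θ
  rcases sq_eq_one_iff.mp h with h1 | h1
  · rw [if_pos h1, Int.cast_one]; exact h1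
  · rw [if_neg (by rw [h1]; norm_num), h1]; simp

/-- The part in `ω` as a combination of the characters of `ω`. -/
theorem phi_eq_sum {x : C[Subgroup.zpowers q]} (hxq : (x : G) = q) (hx : Pelt p x)
    (ω : Blk (Res M) C[Subgroup.zpowers q]) (χ : Cfsg.IrrCharacter G)
    (s : C[Subgroup.zpowers q]) :
    phi (χ : G → ℂ) q ω s =
      ∑ θ ∈ bset (toSet ω), acoef x χ θ * (θ : C[Subgroup.zpowers q] → ℂ) s := by
  classical
  haveI := Fintype.ofFinite (Cfsg.IrrCharacter C[Subgroup.zpowers q])
  have hsect : sect q C[Subgroup.zpowers q] (χ : G → ℂ) =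
      ∑ θ : Cfsg.IrrCharacter C[Subgroup.zpowers q], acoef x χ θ •
        (θ : C[Subgroup.zpowers q] → ℂ) := by
    funext c
    rw [sum_smul_apply, sect_apply]
    refine Eq.trans ?_ (restrict_mul hx.commute χ c)
    rw [hxq]
  rw [phi, blockPart_apply]
  refine Finset.sum_congr rfl fun θ _ => ?_
  rw [hsect, Characters.Complete.classInner_irr_sum]

variable (hM : Cfsg.IsPModular p M) {x : (Subgroup.centralizer (Subgroup.zpowers q : Set G))} (hxq : (x : G) = q)
  (hx : Pelt p x) (hx2 : x * x = 1) {ω : Blk (Res M) (Subgroup.centralizer (Subgroup.zpowers q : Set G))}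
  (hl : Cfsg.blockRank p (toSet ω) = 1)
  (f : {f : IBr M p (Subgroup.centralizer (Subgroup.zpowers q : Set G)) // InBlock (toSet ω) f})

include hxq hx hx2 hl in
/-- The part in a block of rank one is a multiple of the Brauer character. -/
theorem phi_eq (χ : Cfsg.IrrCharacter G) {s : C[Subgroup.zpowers q]} (hs : ¬ p ∣ orderOf s) :
    phi (χ : G → ℂ) q ω s = (secC hM x ω f.1 χ : ℂ) * f.1.1 s := by
  classical
  haveI := finite_ibr (G := C[Subgroup.zpowers q]) hM
  haveI := Fintype.ofFinite {f : IBr M p C[Subgroup.zpowers q] // InBlock (toSet ω) f}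
  have hsub : ∀ e : {f : IBr M p C[Subgroup.zpowers q] // InBlock (toSet ω) f}, e = f :=
    fun e => (Nat.card_eq_one_iff_unique.mp
      ((card_inBlock hM (isPBlock_toSet ω)).trans hl)).1.elim e f
  rw [phi_eq_sum hxq hx ω χ s, secC, Int.cast_sum, Finset.sum_mul]
  refine Finset.sum_congr rfl fun θ hθ => ?_
  rw [apply_regular hM (isPBlock_toSet ω) (mem_bset.mp hθ) hs,
    Fintype.sum_eq_single f fun e he => absurd (hsub e) he, acoef]
  conv_lhs => arg 1; arg 2; rw [lam_eq hx hx2 θ]
  simp only [Int.cast_mul, Int.cast_natCast]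
  ring

include hxq hx hx2 hl in
/-- The section column is a combination of columns. -/
theorem inCols_secC (B : Set (Cfsg.IrrCharacter G)) :
    InCols M B fun χ => (secC hM x ω f.1 χ : ℂ) := by
  classical
  haveI := finite_ibr (G := C[Subgroup.zpowers q]) hM
  obtain ⟨z, hz, hzd⟩ := exists_dual (G := C[Subgroup.zpowers q]) hM
  let a : C[Subgroup.zpowers q] → ℂ := fun s => if p ∣ orderOf s then 0 else z f.1 s
  have ha : ∀ s, a s ∈ localRing M := fun s => by
    simp only [a]
    split_ifs
    · exact zero_mem _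
    · exact hz f.1 s
  have hval : ∀ χ : Cfsg.IrrCharacter G, (secC hM x ω f.1 χ : ℂ) =
      ∑ s, a s * phi (χ : G → ℂ) q ω s := by
    intro χ
    have e : ∀ s, a s * phi (χ : G → ℂ) q ω s =
        (secC hM x ω f.1 χ : ℂ) * (f.1.1 s * z f.1 s) := fun s => by
      simp only [a]
      split_ifs with hs
      · rw [← f.1.bchar_rep, bchar_singular _ hs]; simp
      · rw [phi_eq hM hxq hx hx2 hl f χ hs]; ring
    rw [Finset.sum_congr rfl fun s _ => e s, ← Finset.mul_sum, hzd, if_pos rfl, mul_one]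
  have hcol : ∀ s : C[Subgroup.zpowers q],
      InCols M B fun χ => phi (χ : G → ℂ) q ω s := by
    intro s
    refine ⟨fun g => (((single (q * (s : G)) (1 : localRing M) *
      eHat C[Subgroup.zpowers q] ω).coeff g : localRing M) : ℂ), fun g => SetLike.coe_mem _,
      fun χ _ => ?_⟩
    have e : toC (single (q * (s : G)) (1 : localRing M) * eHat C[Subgroup.zpowers q] ω) =
        single (q * (s : G)) (1 : ℂ) * toC (eHat C[Subgroup.zpowers q] ω) := by
      rw [map_mul]
      congr 1
      simp [toC]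
    show phi (χ : G → ℂ) q ω s = _
    rw [finsum_eq_sum_of_fintype, ← lin_eq_phi, ← e, Blocks.lin_apply]
    refine Finset.sum_congr rfl fun g _ => ?_
    congr 1
  exact (inCols_sum Finset.univ (c := a)
    (v := fun (s : C[Subgroup.zpowers q]) (χ : Cfsg.IrrCharacter G) => phi (χ : G → ℂ) q ω s)
    (fun s _ => ha s) (fun s _ => hcol s)).congr fun χ _ => hval χ

include hxq hx hx2 hl in
/-- The section column is orthogonal to the decomposition columns. -/
theorem sum_dnum_secC (hq : p ∣ orderOf q) {B : Set (Cfsg.IrrCharacter G)}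
    (hB : Cfsg.IsPBlock M B) (e : IBr M p G) :
    ∑ χ ∈ bset B, (dnum hM χ e : ℂ) * (secC hM x ω f.1 χ : ℂ) = 0 := by
  classical
  haveI := Fintype.ofFinite (Cfsg.IrrCharacter C[Subgroup.zpowers q])
  obtain ⟨z, -, hzd⟩ := exists_dual (G := C[Subgroup.zpowers q]) hM
  set Ψ := sect q C[Subgroup.zpowers q] (projChar hM B e) with hΨ
  have hcl : Cfsg.IsClassFunction C[Subgroup.zpowers q] Ψ := by
    refine isClassFunction_sect commute_section fun g t => ?_
    simp only [projChar, Finset.sum_apply, Pi.smul_apply, smul_eq_mul]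
    exact Finset.sum_congr rfl fun χ _ => by rw [isClassFunction_irr χ g t]
  have h0 : Cfsg.pRegularPart p Ψ = 0 := by
    funext c
    rw [pRegularPart_apply]
    split_ifs with hc
    · rfl
    have hsing : p ∣ orderOf (q * (c : G)) := by
      have hcm : Commute q (c : G) := commute_section _ c.2
      have hq2 : q * q = 1 := by
        have := congrArg Subtype.val hx2
        rw [Subgroup.coe_mul, hxq] at this
        exact this
      have hord : orderOf q ∣ 2 := orderOf_dvd_of_pow_eq_one (by rw [pow_two, hq2])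
      have hcop : (orderOf q).Coprime (orderOf (c : G)) := by
        have hp2 : p = 2 := ((Nat.prime_dvd_prime_iff_eq Fact.out Nat.prime_two).mp (hq.trans hord))
        subst hp2
        refine Nat.Coprime.coprime_dvd_left hord ?_
        rw [Nat.prime_two.coprime_iff_not_dvd, Subgroup.orderOf_coe]
        exact hc
      rw [hcm.orderOf_mul_eq_mul_orderOf_of_coprime hcop]
      exact hq.mul_right _
    exact projChar_singular hM hB e hsing
  have hphi : ∀ s : C[Subgroup.zpowers q], ¬ p ∣ orderOf s →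
      ∑ χ ∈ bset B, (dnum hM χ e : ℂ) * phi (χ : G → ℂ) q ω s = 0 := by
    intro s hs
    have h1 := congrFun (regular_blockPart hM (isPBlock_toSet ω) hcl) s
    rw [h0, pRegularPart_apply, if_neg hs, blockPart_apply] at h1
    have h2 : Cfsg.blockPart (toSet ω) (0 : C[Subgroup.zpowers q] → ℂ) s = 0 := by
      rw [blockPart_apply]
      refine Finset.sum_eq_zero fun θ _ => ?_
      simp [Cfsg.classInner]
    rw [h2] at h1
    refine Eq.trans ?_ h1
    simp only [phi, blockPart_apply, Finset.mul_sum]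
    rw [Finset.sum_comm]
    refine Finset.sum_congr rfl fun θ _ => ?_
    have h3 : Ψ = ∑ χ ∈ bset B, (dnum hM χ e : ℂ) •
        sect q C[Subgroup.zpowers q] (χ : G → ℂ) := by
      funext c
      simp [hΨ, projChar, sect_apply, Finset.sum_apply]
    rw [h3, classInner_sum_left, Finset.sum_mul]
    refine Finset.sum_congr rfl fun χ _ => ?_
    rw [Induced.Basic.classInner_smul_left]
    ring
  calc ∑ χ ∈ bset B, (dnum hM χ e : ℂ) * (secC hM x ω f.1 χ : ℂ)
      = (∑ χ ∈ bset B, (dnum hM χ e : ℂ) * (secC hM x ω f.1 χ : ℂ)) *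
          ∑ s, f.1.1 s * z f.1 s := by rw [hzd, if_pos rfl, mul_one]
    _ = ∑ s, z f.1 s * (if p ∣ orderOf s then 0 else
          ∑ χ ∈ bset B, (dnum hM χ e : ℂ) * phi (χ : G → ℂ) q ω s) := by
        rw [Finset.mul_sum]
        refine Finset.sum_congr rfl fun s _ => ?_
        split_ifs with hs
        · rw [← f.1.bchar_rep, bchar_singular _ hs]; simp
        · rw [Finset.sum_mul, Finset.mul_sum]
          refine Finset.sum_congr rfl fun χ _ => ?_
          rw [phi_eq hM hxq hx hx2 hl f χ hs]; ring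
    _ = 0 := Finset.sum_eq_zero fun s _ => by
        split_ifs with hs
        · exact mul_zero _
        · rw [hphi s hs, mul_zero]

include hxq hx hx2 hl in
/-- The squares of the section column sum to the order of the defect group. -/
theorem sum_secC_sq {B : Set (Cfsg.IrrCharacter G)}
    (hind : Cfsg.IsInducedBlock M C[Subgroup.zpowers q] (toSet ω) B)
    (hk : Nat.card (toSet ω) = p ^ Cfsg.blockDefect p (toSet ω)) :
    ∑ χ ∈ bset B, secC hM x ω f.1 χ * secC hM x ω f.1 χ =
      (p : ℤ) ^ Cfsg.blockDefect p (toSet ω) := by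
  classical
  haveI := finite_ibr (G := C[Subgroup.zpowers q]) hM
  haveI := Fintype.ofFinite {f : IBr M p C[Subgroup.zpowers q] // InBlock (toSet ω) f}
  have hb := isPBlock_toSet ω
  have hd1 := fun θ (hθ : θ ∈ toSet ω) => dnum_eq_one hM hb hl hk f hθ
  have hsub : ∀ e : {f : IBr M p C[Subgroup.zpowers q] // InBlock (toSet ω) f}, e = f :=
    fun e => (Nat.card_eq_one_iff_unique.mp ((card_inBlock hM hb).trans hl)).1.elim e f
  have hval : ∀ θ ∈ toSet ω, ∀ s, ¬ p ∣ orderOf s →
      (θ : C[Subgroup.zpowers q] → ℂ) s = f.1.1 s := fun θ hθ s hs => by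
    rw [apply_regular hM hb hθ hs, Fintype.sum_eq_single f fun e he => absurd (hsub e) he,
      hd1 θ hθ, Nat.cast_one, one_mul]
  obtain ⟨θ₀, hθ₀⟩ := Blocks.isPBlock_nonempty hb
  have hN : ∀ θ ∈ toSet ω, ∀ ζ ∈ toSet ω,
      nq p (toSet ω) θ ζ = nq p (toSet ω) θ₀ θ₀ := by
    intro θ hθ ζ hζ
    have h : contribN p θ ζ = contribN p θ₀ θ₀ := by
      have e : regSum p (θ : C[Subgroup.zpowers q] → ℂ) (ζ : C[Subgroup.zpowers q] → ℂ) =
          regSum p (θ₀ : C[Subgroup.zpowers q] → ℂ) (θ₀ : C[Subgroup.zpowers q] → ℂ) := by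
        simp only [regSum_eq_sum]
        refine Finset.sum_congr rfl fun s _ => ?_
        split_ifs with hs
        · rfl
        · rw [hval θ hθ s hs, hval θ₀ hθ₀ s hs, hval ζ hζ _ (by rwa [orderOf_inv]),
            hval θ₀ hθ₀ _ (by rwa [orderOf_inv])]
      rw [regSum_eq_contribN, regSum_eq_contribN] at e
      exact_mod_cast mul_left_cancel₀ (Nat.cast_ne_zero.mpr (primeToCard_pos p).ne') e
    rw [nq, nq, h]
  have hn1 : nq p (toSet ω) θ₀ θ₀ = 1 := by
    have h := sum_nq_self hM hb
    rw [hl, Finset.sum_congr rfl fun θ hθ => hN θ (mem_bset.mp hθ) θ (mem_bset.mp hθ),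
      Finset.sum_const, card_bset, hk, nsmul_eq_mul, Nat.cast_pow, Nat.cast_one] at h
    exact mul_left_cancel₀ (pow_ne_zero _ (Int.natCast_ne_zero.mpr (Fact.out : p.Prime).ne_zero)) h
  have hrow : ∀ χ, ∀ ζ ∈ toSet ω, rowq p (toSet ω) x χ ζ = (secC hM x ω f.1 χ : ℂ) := by
    intro χ ζ hζ
    rw [rowq, secC, Int.cast_sum]
    refine Finset.sum_congr rfl fun θ hθ => ?_
    rw [hN θ (mem_bset.mp hθ) ζ hζ, hn1, hd1 θ (mem_bset.mp hθ), acoef]
    conv_lhs => arg 1; arg 2; rw [lam_eq hx hx2 θ]
    simp only [Int.cast_mul, Int.cast_natCast, Int.cast_one, Nat.cast_one]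
  have h := sum_rowq_mul hM hx hind hθ₀ hθ₀
  simp only [hrow _ _ hθ₀, map_intCast, hn1, Int.cast_one, mul_one] at h
  exact_mod_cast h

include hxq hx hx2 hl in
/-- At a central element of a defect group all entries are nonzero. -/
theorem secC_ne_zero {χ : Cfsg.IrrCharacter G}
    (h : ∃ s : C[Subgroup.zpowers q], ¬ p ∣ orderOf s ∧ phi (χ : G → ℂ) q ω s ≠ 0) :
    secC hM x ω f.1 χ ≠ 0 := by
  obtain ⟨s, hs, hne⟩ := h
  intro h0
  rw [phi_eq hM hxq hx hx2 hl f χ hs, h0, Int.cast_zero, zero_mul] at hne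
  exact hne rfl

end Cfsg.Agent.Lib.PerfectIso
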